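import Groth.Agent.FFun.GenSheaf
import Groth.Agent.S0002
import Groth.Prelude.Def_Formal2

/-!
# Cohomology of the submodules `Iⁿ M`
-/

universe u

set_option backward.isDefEq.respectTransparency false
set_option backward.isDefEq.respectTransparency.types false

open CategoryTheory CategoryTheory.Limits AlgebraicGeometry TopologicalSpace Opposite
open CategoryTheory.Abelian
open Groth.Agent.PnCoh.Finite (mapLin deltaLin)

noncomputable section

attribute [local instance] Groth.Agent.QCoh.hasFiniteBiproducts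

namespace Groth.Agent.FFun.Gen

variable {A : Type u} [CommRing A] {X : Scheme.{u}} [X.Over (Spec (CommRingCat.of A))]
  (I : Ideal A) (M : X.Modules)

theorem smul_π_eq_zero {n : ℕ} {b : A} (hb : b ∈ I ^ n) :
    Formal.smulMod A M b ≫ Formal.modPowπ I n M = 0 := by
  have h : Formal.smulMod A M b = Sigma.ι (fun _ : ↥(I ^ n) => M) ⟨b, hb⟩ ≫ Formal.smulFamily (I ^ n) M := by
    simp [Formal.smulFamily]
  rw [h, Category.assoc, Formal.modPowπ, cokernel.condition, comp_zero]

theorem epi_modPowπ (n : ℕ) : Epi (Formal.modPowπ I n M) := by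
  unfold Formal.modPowπ; infer_instance

/-- The section `b : M → Iⁿ M`. -/
def rho (n : ℕ) (b : A) (hb : b ∈ I ^ n) : M ⟶ Formal2.idealPowMod I n M :=
  kernel.lift _ (Formal.smulMod A M b) (smul_π_eq_zero I M hb)

@[reassoc]
theorem rho_ι (n : ℕ) (b : A) (hb : b ∈ I ^ n) :
    rho I M n b hb ≫ Formal2.idealPowModι I n M = Formal.smulMod A M b := kernel.lift_ι _ _ _

@[reassoc]
theorem incl_ι {m n : ℕ} (h : m ≤ n) :
    Formal2.idealPowIncl I h M ≫ Formal2.idealPowModι I m M = Formal2.idealPowModι I n M :=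
  kernel.lift_ι _ _ _

theorem incl_incl {m n k : ℕ} (h : m ≤ n) (h' : n ≤ k) :
    Formal2.idealPowIncl I h' M ≫ Formal2.idealPowIncl I h M = Formal2.idealPowIncl I (h.trans h') M := by
  rw [← cancel_mono (Formal2.idealPowModι I m M), Category.assoc, incl_ι, incl_ι, incl_ι]

theorem incl_self (n : ℕ) : Formal2.idealPowIncl I (le_refl n) M = 𝟙 _ := by
  rw [← cancel_mono (Formal2.idealPowModι I n M), incl_ι, Category.id_comp]

theorem smul_π_smul (n : ℕ) {a : A} (ha : a ∈ I) :
    Formal2.idealPowModι I n M ≫ Formal.smulMod A M a ≫ Formal.modPowπ I (n + 1) M = 0 := by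
  have h : Formal.smulFamily (I ^ n) M ≫ Formal.smulMod A M a ≫ Formal.modPowπ I (n + 1) M = 0 := by
    refine Sigma.hom_ext _ _ fun b => ?_
    rw [← Category.assoc, comp_zero, show Sigma.ι (fun _ : ↥(I ^ n) => M) b ≫ Formal.smulFamily (I ^ n) M =
      Formal.smulMod A M (b : A) from by simp [Formal.smulFamily], ← Category.assoc, ← smulMod_mul]
    exact smul_π_eq_zero I M (pow_succ' I n ▸ Ideal.mul_mem_mul ha b.2)
  have e : Formal.modPowπ I n M ≫ cokernel.desc (Formal.smulFamily (I ^ n) M) _ h =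
      Formal.smulMod A M a ≫ Formal.modPowπ I (n + 1) M := cokernel.π_desc _ _ h
  rw [← e, ← Category.assoc]
  exact (congrArg (· ≫ _) (kernel.condition (Formal.modPowπ I n M))).trans zero_comp

/-- Multiplication by an element of `I`. -/
def mulI (n : ℕ) (a : A) (ha : a ∈ I) : Formal2.idealPowMod I n M ⟶ Formal2.idealPowMod I (n + 1) M :=
  kernel.lift _ (Formal2.idealPowModι I n M ≫ Formal.smulMod A M a)
    (by rw [Category.assoc, smul_π_smul I M n ha])

@[reassoc]
theorem mulI_ι (n : ℕ) (a : A) (ha : a ∈ I) :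
    mulI I M n a ha ≫ Formal2.idealPowModι I (n + 1) M = Formal2.idealPowModι I n M ≫ Formal.smulMod A M a :=
  kernel.lift_ι _ _ _

variable {r : ℕ} (a : Fin r → A) (ha : ∀ i, a i ∈ I)

/-- The system of the `Iⁿ M`. -/
def powSys : Sys X r where
  G n := Formal2.idealPowMod I n M
  t n i := mulI I M n (a i) (ha i)
  comm n i j := by
    rw [← cancel_mono (Formal2.idealPowModι I (n + 1 + 1) M)]
    simp only [Category.assoc, mulI_ι, mulI_ι_assoc]
    rw [← smulMod_mul, ← smulMod_mul, mul_comm]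

theorem rho_mulI (n : ℕ) (b : A) (hb : b ∈ I ^ n) (c : A) (hc : c ∈ I) :
    rho I M n b hb ≫ mulI I M n c hc =
      rho I M (n + 1) (c * b) (pow_succ' I n ▸ Ideal.mul_mem_mul hc hb) := by
  rw [← cancel_mono (Formal2.idealPowModι I (n + 1) M), Category.assoc, mulI_ι, rho_ι_assoc, rho_ι,
    smulMod_mul]

theorem genFrom_powSys (hspan : Ideal.span (Set.range a) = I) : (powSys I M a ha).GenFrom 0 := by
  intro n _
  refine Preadditive.epi_of_cancel_zero _ fun {Z} g hg => ?_
  have hg' : ∀ i, mulI I M n (a i) (ha i) ≫ g = 0 := fun i => by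
    have h := congrArg (fun z => biproduct.ι (fun _ : ULift.{u} (Fin r) => (powSys I M a ha).G n) ⟨i⟩ ≫ z) hg
    simp only [biproduct.ι_desc_assoc, comp_zero] at h
    exact h
  have hrho : ∀ b (hb : b ∈ I ^ (n + 1)), rho I M (n + 1) b hb ≫ g = 0 := by
    let T : Ideal A :=
      { carrier := {b | ∃ hb : b ∈ I ^ (n + 1), rho I M (n + 1) b hb ≫ g = 0}
        zero_mem' := ⟨zero_mem _, by
          rw [show rho I M (n + 1) 0 (zero_mem _) = 0 by
            rw [← cancel_mono (Formal2.idealPowModι I (n + 1) M), rho_ι, smulMod_zero, zero_comp], zero_comp]⟩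
        add_mem' := fun {b c} hb hc => ⟨add_mem hb.1 hc.1, by
          rw [show rho I M (n + 1) (b + c) (add_mem hb.1 hc.1) = rho I M (n + 1) b hb.1 + rho I M (n + 1) c hc.1 by
            rw [← cancel_mono (Formal2.idealPowModι I (n + 1) M), rho_ι, Preadditive.add_comp, rho_ι, rho_ι,
              smulMod_add], Preadditive.add_comp, hb.2, hc.2, add_zero]⟩
        smul_mem' := fun c b hb => ⟨Ideal.mul_mem_left _ c hb.1, by
          rw [show rho I M (n + 1) (c • b) (Ideal.mul_mem_left _ c hb.1) =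
              Formal.smulMod A M c ≫ rho I M (n + 1) b hb.1 by
            rw [← cancel_mono (Formal2.idealPowModι I (n + 1) M), rho_ι, Category.assoc, rho_ι, smul_eq_mul,
              mul_comm, smulMod_mul], Category.assoc, hb.2, comp_zero]⟩ }
    have hT : I ^ (n + 1) ≤ T := by
      rw [pow_succ', Ideal.mul_le]
      intro x hx b hb
      rw [← hspan] at hx
      induction hx using Submodule.span_induction with
      | mem x hx =>
        obtain ⟨i, rfl⟩ := hx
        refine ⟨pow_succ' I n ▸ Ideal.mul_mem_mul (ha i) hb, ?_⟩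
        rw [← rho_mulI I M n b hb (a i) (ha i), Category.assoc, hg', comp_zero]
      | zero => rw [zero_mul]; exact zero_mem T
      | add x y _ _ hx hy => rw [add_mul]; exact add_mem hx hy
      | smul c x _ hx => rw [smul_eq_mul, mul_assoc]; exact T.smul_mem c hx
    exact fun b hb => (hT hb).2
  let F : (∐ fun _ : ↥(I ^ (n + 1)) => M) ⟶ Formal2.idealPowMod I (n + 1) M :=
    Abelian.factorThruImage (Formal.smulFamily (I ^ (n + 1)) M)
  haveI : Epi F := inferInstanceAs (Epi (Abelian.factorThruImage (Formal.smulFamily (I ^ (n + 1)) M)))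
  rw [← cancel_epi F, comp_zero]
  refine Sigma.hom_ext _ _ fun b => ?_
  rw [comp_zero, ← Category.assoc,
    show Sigma.ι (fun _ : ↥(I ^ (n + 1)) => M) b ≫ F = rho I M (n + 1) b.1 b.2 from ?_, hrho]
  rw [← cancel_mono (Formal2.idealPowModι I (n + 1) M), rho_ι, Category.assoc]
  exact (congrArg (_ ≫ ·) (Abelian.image.fac (Formal.smulFamily (I ^ (n + 1)) M))).trans
    (by simp [Formal.smulFamily])

/-- The map on cohomology of an inclusion. -/
abbrev inclH {m n : ℕ} (h : m ≤ n) (p : ℕ) :
    Coh.HH X (Formal2.idealPowMod I n M) p →ₗ[A] Coh.HH X (Formal2.idealPowMod I m M) p :=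
  mapLin A (Formal2.idealPowIncl I h M) p

/-- The map on cohomology into `M`. -/
abbrev ιH (n p : ℕ) : Coh.HH X (Formal2.idealPowMod I n M) p →ₗ[A] Coh.HH X M p :=
  mapLin A (Formal2.idealPowModι I n M) p

/-- The map on cohomology of a multiplication. -/
abbrev mulH (n : ℕ) (c : A) (hc : c ∈ I) (p : ℕ) :
    Coh.HH X (Formal2.idealPowMod I n M) p →ₗ[A] Coh.HH X (Formal2.idealPowMod I (n + 1) M) p :=
  mapLin A (mulI I M n c hc) p

variable {I M}

theorem inclH_inclH {m n k : ℕ} (h : m ≤ n) (h' : n ≤ k) (p : ℕ) (x) :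
    inclH I M h p (inclH I M h' p x) = inclH I M (h.trans h') p x := by
  rw [mapLin_comp, incl_incl]

theorem inclH_self (n p : ℕ) (x : Coh.HH X (Formal2.idealPowMod I n M) p) :
    inclH I M (le_refl n) p x = x := by
  refine (mapLin_congr (incl_self I M n) p x).trans ?_
  show Sheaf.H.map ((QCoh.toAbFunctor X).map (𝟙 _)) p x = x
  rw [CategoryTheory.Functor.map_id, Sheaf.H.map_id_apply]

theorem ιH_inclH {m n : ℕ} (h : m ≤ n) (p : ℕ) (x) : ιH I M m p (inclH I M h p x) = ιH I M n p x := by
  rw [mapLin_comp, incl_ι]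

theorem inclH_mulH {n : ℕ} (c : A) (hc : c ∈ I) {m : ℕ} (h : m ≤ n) (h' : m ≤ n + 1) (p : ℕ) (x) :
    inclH I M h' p (mulH I M n c hc p x) = c • inclH I M h p x := by
  rw [mapLin_comp, ← mapLin_smulMod, mapLin_comp]
  refine mapLin_congr ?_ p x
  rw [← cancel_mono (Formal2.idealPowModι I m M), Category.assoc, incl_ι, mulI_ι, Category.assoc,
    smulMod_naturality, incl_ι_assoc]

theorem inclH_mulH_succ {n m : ℕ} (c : A) (hc : c ∈ I) (h : m ≤ n) (h' : m + 1 ≤ n + 1) (p : ℕ) (x) :
    inclH I M h' p (mulH I M n c hc p x) = mulH I M m c hc p (inclH I M h p x) := by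
  rw [mapLin_comp, mapLin_comp]
  refine mapLin_congr ?_ p x
  rw [← cancel_mono (Formal2.idealPowModι I (m + 1) M), Category.assoc, incl_ι, mulI_ι, Category.assoc,
    mulI_ι, incl_ι_assoc]

theorem ιH_mulH (n : ℕ) (c : A) (hc : c ∈ I) (p : ℕ) (x) :
    ιH I M (n + 1) p (mulH I M n c hc p x) = c • ιH I M n p x := by
  rw [mapLin_comp, mulI_ι, ← mapLin_comp, mapLin_smulMod]

variable (I M) in
/-- The classes dying in the cohomology of `M`. -/
abbrev NK (p n : ℕ) : Submodule A (Coh.HH X (Formal2.idealPowMod I n M) p) := LinearMap.ker (ιH I M n p)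

/-- An element of `Iᵉ` kills the classes of degree `e` dying in `M`. -/
theorem smul_NK {p e : ℕ} {b : A} (hb : b ∈ I ^ e) {y} (hy : y ∈ NK I M p e) : b • y = 0 := by
  have h : Formal.smulMod A (Formal2.idealPowMod I e M) b = Formal2.idealPowModι I e M ≫ rho I M e b hb := by
    rw [← cancel_mono (Formal2.idealPowModι I e M), Category.assoc, rho_ι, smulMod_naturality]
  rw [← mapLin_smulMod, h, ← mapLin_comp, LinearMap.mem_ker.1 hy, map_zero]

/-- The properties making cohomology of `Iⁿ M` uniformly bounded. -/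
def PowBound (I : Ideal A) (M : X.Modules) (p d : ℕ) : Prop :=
  ∃ (r : ℕ) (a : Fin r → A) (ha : ∀ i, a i ∈ I),
    (∀ n, d ≤ n → ⨆ i, LinearMap.range (mulH I M n (a i) (ha i) p) = ⊤) ∧
    ∀ n, d ≤ n → NK I M p (n + 1) ≤ ⨆ i, (NK I M p n).map (mulH I M n (a i) (ha i) p)

theorem exists_powBound [IsNoetherianRing A] [IsProper (X ↘ Spec (CommRingCat.of A))] {M : X.Modules}
    (hM : Coh.IsCoh M) (I : Ideal A) (p : ℕ) : ∃ d, PowBound I M p d := by
  haveI : CompactSpace X := QuasiCompact.compactSpace_of_compactSpace (X ↘ Spec (CommRingCat.of A))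
  haveI : IsLocallyNoetherian X := LocallyOfFiniteType.isLocallyNoetherian (X ↘ Spec (CommRingCat.of A))
  haveI : IsNoetherian X := { __ := ‹IsLocallyNoetherian X›, __ := ‹CompactSpace X› }
  obtain ⟨r, a, hspan⟩ := Submodule.fg_iff_exists_fin_generating_family.1 (IsNoetherian.noetherian I)
  replace hspan : Ideal.span (Set.range a) = I := hspan
  have ha : ∀ i, a i ∈ I := fun i => hspan ▸ Ideal.subset_span ⟨i, rfl⟩
  have hfin := fun (N : X.Modules) (hN : Coh.IsCoh N) (q : ℕ) => Groth.Agent.S0002.result A X N hN q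
  have hG : ∀ n, Coh.IsCoh ((powSys I M a ha).G n) := fun n =>
    QCoh.isCoh_kernel hM (isCoh_modJ (I ^ n) hM) _
  obtain ⟨e, he⟩ := exists_genHH hfin p (powSys I M a ha) hG 0 (genFrom_powSys I M a ha hspan)
  obtain ⟨e', he'⟩ := exists_gen_HH_sub (powSys I M a ha) (fun n => hfin _ (hG n) p) he
    (fun n => NK I M p n) fun n i x hx => by
      rw [LinearMap.mem_ker] at hx ⊢
      exact (ιH_mulH n (a i) (ha i) p x).trans ((congrArg (a i • ·) hx).trans (smul_zero _))
  exact ⟨max e e', r, a, ha, fun n hn => he n (le_of_max_le_left hn),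
    fun n hn => he' n (le_of_max_le_right hn)⟩

variable {p d : ℕ}

theorem range_inclH_le (hb : PowBound I M p d) (n m : ℕ) (h : n ≤ n + m) :
    LinearMap.range (inclH I M h p) ≤
      I ^ (m - (d - n)) • (⊤ : Submodule A (Coh.HH X (Formal2.idealPowMod I n M) p)) := by
  obtain ⟨r, a, ha, hgen, -⟩ := hb
  induction m with
  | zero => simp
  | succ m ih =>
    by_cases hm : d ≤ n + m
    · rintro _ ⟨x, rfl⟩
      obtain ⟨f, hf, rfl⟩ := Submodule.mem_iSup_iff_exists_finsupp _ _ |>.1
        ((hgen (n + m) hm).ge (Submodule.mem_top (x := x)))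
      rw [Finsupp.sum_fintype _ _ (fun _ => rfl), map_sum]
      refine Submodule.sum_mem _ fun i _ => ?_
      obtain ⟨y, hy⟩ := hf i
      rw [← hy]
      show inclH I M h p (mulH I M (n + m) (a i) (ha i) p y) ∈ _
      have e : inclH I M h p (mulH I M (n + m) (a i) (ha i) p y) =
          a i • inclH I M (Nat.le_add_right n m) p y := inclH_mulH (a i) (ha i) _ h p y
      rw [e, show m + 1 - (d - n) = m - (d - n) + 1 by omega,
        pow_succ', Submodule.mul_smul]
      exact Submodule.smul_mem_smul (ha i) (ih (Nat.le_add_right n m) (LinearMap.mem_range_self _ y))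
    · rw [show m + 1 - (d - n) = 0 by omega]
      simp

theorem range_ιH_succ (hb : PowBound I M p d) {n : ℕ} (hn : d ≤ n) :
    LinearMap.range (ιH I M (n + 1) p) = I • LinearMap.range (ιH I M n p) := by
  refine le_antisymm ?_ (Submodule.smul_le.2 fun c hc x ⟨y, hy⟩ => ⟨mulH I M n c hc p y, by
    rw [ιH_mulH, hy]⟩)
  obtain ⟨r, a, ha, hgen, -⟩ := hb
  rw [LinearMap.range_eq_map, ← hgen n hn, Submodule.map_iSup]
  refine iSup_le fun i => ?_
  rintro _ ⟨_, ⟨y, rfl⟩, rfl⟩
  rw [ιH_mulH]
  exact Submodule.smul_mem_smul (ha i) (LinearMap.mem_range_self _ y)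

theorem inclH_NK_eq_zero (hb : PowBound I M p d) {n k : ℕ} (h : n ≤ k) (hk : n + 2 * d ≤ k) {z}
    (hz : z ∈ NK I M p k) : inclH I M h p z = 0 := by
  obtain ⟨r, a, ha, -, hgen⟩ := hb
  have hA : ∀ j, ∀ z ∈ NK I M p (d + j),
      inclH I M (Nat.le_add_right d j) p z ∈ I ^ j • NK I M p d := by
    intro j
    induction j with
    | zero =>
      intro z hz
      rw [pow_zero, Ideal.one_eq_top, Submodule.top_smul]
      rw [show inclH I M (Nat.le_add_right d 0) p z = z from inclH_self d p z]
      exact hz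
    | succ j ih =>
      intro z hz
      obtain ⟨f, hf, rfl⟩ := Submodule.mem_iSup_iff_exists_finsupp _ _ |>.1 (hgen (d + j) (Nat.le_add_right d j) hz)
      rw [Finsupp.sum_fintype _ _ (fun _ => rfl), map_sum]
      refine Submodule.sum_mem _ fun i _ => ?_
      obtain ⟨y, hy, hyz⟩ := hf i
      rw [← hyz]
      show inclH I M (Nat.le_add_right d (j + 1)) p (mulH I M (d + j) (a i) (ha i) p y) ∈ _
      have e : inclH I M (Nat.le_add_right d (j + 1)) p (mulH I M (d + j) (a i) (ha i) p y) =
          a i • inclH I M (Nat.le_add_right d j) p y := inclH_mulH (a i) (ha i) _ _ p y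
      rw [e, pow_succ', Submodule.mul_smul]
      exact Submodule.smul_mem_smul (ha i) (ih y hy)
  have hB : ∀ i j, d ≤ j → ∀ z ∈ NK I M p (d + j + i),
      inclH I M (show d + i ≤ d + j + i by omega) p z = 0 := by
    intro i
    induction i with
    | zero =>
      intro j hj z hz
      have h0 : I ^ j • NK I M p d = ⊥ := eq_bot_iff.2 (Submodule.smul_le.2 fun c hc y hy =>
        (Submodule.mem_bot A).2 (smul_NK (Ideal.pow_le_pow_right hj hc) hy))
      exact (Submodule.mem_bot A).1 (h0 ▸ hA j z hz)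
    | succ i ih =>
      intro j hj z hz
      obtain ⟨f, hf, rfl⟩ := Submodule.mem_iSup_iff_exists_finsupp _ _ |>.1
        (hgen (d + j + i) (by omega) hz)
      rw [Finsupp.sum_fintype _ _ (fun _ => rfl), map_sum]
      refine Finset.sum_eq_zero fun l _ => ?_
      obtain ⟨y, hy, hyz⟩ := hf l
      rw [← hyz]
      show inclH I M (show d + i + 1 ≤ d + j + i + 1 by omega) p (mulH I M (d + j + i) (a l) (ha l) p y) = 0
      refine (inclH_mulH_succ (a l) (ha l) (show d + i ≤ d + j + i by omega) _ p y).trans ?_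
      rw [ih j hj y hy, map_zero]
  rcases le_total d n with hdn | hnd
  · obtain ⟨i, rfl⟩ := Nat.exists_eq_add_of_le hdn
    obtain ⟨j, rfl⟩ := Nat.exists_eq_add_of_le h
    obtain ⟨j', hj', e⟩ : ∃ j', d ≤ j' ∧ d + i + j = d + j' + i := ⟨j, by omega, by omega⟩
    suffices H : ∀ k', ∀ h' : d + i ≤ k', k' = d + j' + i → ∀ z ∈ NK I M p k', inclH I M h' p z = 0 from
      H _ h e z hz
    rintro _ h' rfl z hz
    exact hB i j' hj' z hz
  · obtain ⟨j, rfl⟩ := Nat.exists_eq_add_of_le (show d ≤ k by omega)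
    rw [← inclH_inclH hnd (Nat.le_add_right d j), show inclH I M (Nat.le_add_right d j) p z = 0 from
      hB 0 j (by omega) z hz, map_zero]

theorem pow_ses (I : Ideal A) (M : X.Modules) (n : ℕ) :
    (ShortComplex.mk (Formal2.idealPowModι I n M) (Formal.modPowπ I n M) (kernel.condition _)).ShortExact :=
  haveI := epi_modPowπ I M n
  { exact := ShortComplex.exact_kernel _, mono_f := inferInstance, epi_g := inferInstance }

theorem mem_ker_toHHmodPow (n : ℕ) (x : Coh.HH X M p) :
    x ∈ (Formal.toHHmodPow I M p n).ker ↔ x ∈ LinearMap.range (ιH I M (n + 1) p) := by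
  have hT := QCoh.toAb_shortExact (pow_ses I M (n + 1))
  constructor
  · exact fun hx => Ext.covariant_sequence_exact₂ _ hT x hx
  · rintro ⟨y, rfl⟩
    show mapLin A (Formal.modPowπ I (n + 1) M) p (ιH I M (n + 1) p y) = 0
    refine (mapLin_comp _ _ p y).trans ?_
    refine (mapLin_congr (kernel.condition _) p y).trans ?_
    show Sheaf.H.map ((QCoh.toAbFunctor X).map 0) p y = 0
    rw [Functor.map_zero]
    show ((Sheaf.functorH _ p).map 0).hom y = 0
    rw [Functor.map_zero]
    rfl

theorem completion_map_eq (I : Ideal A) (M : X.Modules) {n k : ℕ} (h : n ≤ k) :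
    Formal.modPowπ I (k + 1) M ≫ (Formal.completion I M).map (homOfLE h).op =
      Formal.modPowπ I (n + 1) M := by
  induction k, h using Nat.le_induction with
  | base =>
    rw [show (homOfLE (le_refl n)).op = 𝟙 (op n) from rfl, CategoryTheory.Functor.map_id]
    exact Category.comp_id _
  | succ k h ih =>
    rw [show (homOfLE (Nat.le_trans h (Nat.le_succ k))).op =
      (homOfLE (Nat.le_succ k)).op ≫ (homOfLE h).op from rfl, Functor.map_comp, ← Category.assoc]
    refine (congrArg (· ≫ _) ?_).trans ih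
    exact (congrArg (Formal.modPowπ I (k + 1 + 1) M ≫ ·)
      (Functor.ofOpSequence_map_homOfLE_succ _ k)).trans (Formal.modPowπ_trans I (k + 1) M)

theorem exists_lift_of_le (hb : PowBound I M (p + 1) d) {n k : ℕ} (h : n ≤ k) (hk : n + 2 * d ≤ k)
    (y : Coh.HH X (Formal.modPow I (k + 1) M) p) :
    ∃ z, mapLin A (Formal.modPowπ I (n + 1) M) p z =
      mapLin A ((Formal.completion I M).map (homOfLE h).op) p y := by
  let φ : ShortComplex.mk (Formal2.idealPowModι I (k + 1) M) (Formal.modPowπ I (k + 1) M) (kernel.condition _) ⟶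
      ShortComplex.mk (Formal2.idealPowModι I (n + 1) M) (Formal.modPowπ I (n + 1) M) (kernel.condition _) :=
    { τ₁ := Formal2.idealPowIncl I (Nat.succ_le_succ h) M
      τ₂ := 𝟙 M
      τ₃ := (Formal.completion I M).map (homOfLE h).op
      comm₁₂ := by
        show Formal2.idealPowIncl I (Nat.succ_le_succ h) M ≫ Formal2.idealPowModι I (n + 1) M = _
        rw [incl_ι]; exact (Category.comp_id _).symm
      comm₂₃ := by
        show 𝟙 M ≫ Formal.modPowπ I (n + 1) M = _
        rw [Category.id_comp]; exact (completion_map_eq I M h).symm }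
  refine Groth.Agent.PnCoh.Finite.exists_of_deltaLin_eq_zero A (pow_ses I M (n + 1)) p ?_
  refine (QCoh.Ab.connecting_naturality (X := X.toPresheafedSpace.carrier)
    (QCoh.toAb_shortExact (pow_ses I M (k + 1))) (QCoh.toAb_shortExact (pow_ses I M (n + 1)))
    ((QCoh.toAbFunctor X).mapShortComplex.map φ) p y).symm.trans ?_
  refine inclH_NK_eq_zero hb (Nat.succ_le_succ h) (by omega)
    (z := deltaLin A (pow_ses I M (k + 1)) p y) ?_
  rw [LinearMap.mem_ker]
  have hT := QCoh.toAb_shortExact (pow_ses I M (k + 1))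
  show ((y.comp hT.extClass rfl).comp (Ext.mk₀ ((QCoh.toAbFunctor X).map (Formal2.idealPowModι I (k + 1) M)))
    (add_zero _)) = 0
  rw [Ext.comp_assoc_of_third_deg_zero]
  exact (congrArg (fun z => Ext.comp y z _) hT.extClass_comp).trans (Ext.comp_zero _ _ _ _ _)

end Groth.Agent.FFun.Gen
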