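import Groth.Prelude.Def_Formal
import Groth.Agent.QCoh.ProperFinite
import Groth.Agent.QCoh.Ab.LerayNat
import Groth.Agent.QCoh.DevissageP

/-!
# Quotients by ideals of the base, for the theorem on formal functions
-/

universe u

set_option backward.isDefEq.respectTransparency false
set_option backward.isDefEq.respectTransparency.types false

open CategoryTheory CategoryTheory.Limits AlgebraicGeometry TopologicalSpace Opposite
open Groth.Agent.PnCoh.Finite (mapLin deltaLin)

noncomputable section

namespace Groth.Agent.FFun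

variable {A : Type u} [CommRing A] {X : Scheme.{u}} [X.Over (Spec (CommRingCat.of A))]

theorem smulMod_naturality {M N : X.Modules} (φ : M ⟶ N) (a : A) :
    Formal.smulMod A M a ≫ φ = φ ≫ Formal.smulMod A N a := by
  refine Scheme.Modules.hom_ext _ _ fun U => ?_
  ext m
  exact Scheme.Modules.Hom.app_smul φ _ m

theorem smulMod_app (M : X.Modules) (a : A) (U : X.Opens) (m : Γ(M, U)) :
    (Formal.smulMod A M a).app U m =
      (show Γ(X, U) from Coh.resTop X (op U) (Coh.toGlobal (X ↘ Spec (CommRingCat.of A)) a)) • m := rfl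

theorem smulMod_one (M : X.Modules) : Formal.smulMod A M 1 = 𝟙 M := by
  refine Scheme.Modules.hom_ext _ _ fun U => ?_
  ext m
  refine (smulMod_app M 1 U m).trans ?_
  rw [map_one, map_one]
  exact one_smul _ m

theorem smulMod_zero (M : X.Modules) : Formal.smulMod A M 0 = 0 := by
  refine Scheme.Modules.hom_ext _ _ fun U => ?_
  ext m
  refine (smulMod_app M 0 U m).trans ?_
  rw [map_zero, map_zero]
  exact zero_smul _ m

theorem smulMod_add (M : X.Modules) (a b : A) :
    Formal.smulMod A M (a + b) = Formal.smulMod A M a + Formal.smulMod A M b := by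
  refine Scheme.Modules.hom_ext _ _ fun U => ?_
  ext m
  refine (smulMod_app M (a + b) U m).trans ?_
  rw [map_add, map_add]
  exact add_smul _ _ m

theorem smulMod_mul (M : X.Modules) (a b : A) :
    Formal.smulMod A M (a * b) = Formal.smulMod A M b ≫ Formal.smulMod A M a := by
  refine Scheme.Modules.hom_ext _ _ fun U => ?_
  ext m
  refine (smulMod_app M (a * b) U m).trans ?_
  rw [map_mul, map_mul]
  exact mul_smul _ _ m

/-- The elements killing a module. -/
def killIdeal (T : X.Modules) : Ideal A where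
  carrier := {a | Formal.smulMod A T a = 0}
  zero_mem' := smulMod_zero T
  add_mem' {a b} ha hb := by
    show Formal.smulMod A T (a + b) = 0
    rw [smulMod_add, show Formal.smulMod A T a = 0 from ha, show Formal.smulMod A T b = 0 from hb,
      add_zero]
  smul_mem' c a ha := by
    show Formal.smulMod A T (c * a) = 0
    rw [smulMod_mul, show Formal.smulMod A T a = 0 from ha, zero_comp]

theorem mem_killIdeal {T : X.Modules} {a : A} : a ∈ killIdeal T ↔ Formal.smulMod A T a = 0 := Iff.rfl

theorem killIdeal_le_of_epi {M T : X.Modules} (φ : M ⟶ T) [Epi φ] :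
    killIdeal (A := A) M ≤ killIdeal T := fun a ha => by
  rw [mem_killIdeal, ← cancel_epi φ, ← smulMod_naturality φ a, mem_killIdeal.1 ha, zero_comp, comp_zero]

variable (A) in
/-- The map on cohomology of multiplication by `a`. -/
theorem mapLin_smulMod (M : X.Modules) (a : A) (p : ℕ) (x : Coh.HH X M p) :
    mapLin A (Formal.smulMod A M a) p x = a • x := rfl

theorem smul_HH_eq_zero {T : X.Modules} {a : A} (ha : a ∈ killIdeal T) (p : ℕ) (x : Coh.HH X T p) :
    a • x = 0 := by
  rw [← mapLin_smulMod, mem_killIdeal.1 ha]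
  show Sheaf.H.map ((QCoh.toAbFunctor X).map 0) p x = 0
  rw [Functor.map_zero]
  show ((Sheaf.functorH _ p).map 0).hom x = 0
  rw [Functor.map_zero]
  rfl

/-- `M / J M`. -/
abbrev modJ (J : Ideal A) (M : X.Modules) : X.Modules := cokernel (Formal.smulFamily J M)

/-- The projection. -/
abbrev modJπ (J : Ideal A) (M : X.Modules) : M ⟶ modJ J M := cokernel.π (Formal.smulFamily J M)

theorem le_killIdeal_modJ (J : Ideal A) (M : X.Modules) : J ≤ killIdeal (modJ J M) := fun a ha => by
  rw [mem_killIdeal, ← cancel_epi (modJπ J M), ← smulMod_naturality, comp_zero]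
  have h : Formal.smulMod A M a = Sigma.ι (fun _ : J => M) ⟨a, ha⟩ ≫ Formal.smulFamily J M := by
    simp [Formal.smulFamily]
  rw [h, Category.assoc, cokernel.condition, comp_zero]

/-- A map to a module killed by `J` factors through `M / J M`. -/
def descJ {J : Ideal A} {M T : X.Modules} (φ : M ⟶ T) (h : J ≤ killIdeal T) : modJ J M ⟶ T :=
  cokernel.desc _ φ (by
    refine Sigma.hom_ext _ _ fun a => ?_
    rw [← Category.assoc, comp_zero, show Sigma.ι (fun _ : J => M) a ≫ Formal.smulFamily J M =
      Formal.smulMod A M (a : A) from by simp [Formal.smulFamily], smulMod_naturality,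
      mem_killIdeal.1 (h a.2), comp_zero])

@[reassoc]
theorem π_descJ {J : Ideal A} {M T : X.Modules} (φ : M ⟶ T) (h : J ≤ killIdeal T) :
    modJπ J M ≫ descJ φ h = φ := cokernel.π_desc _ _ _

variable {M : X.Modules}

theorem isCoh_modJ (J : Ideal A) (hM : Coh.IsCoh M) : Coh.IsCoh (modJ J M) :=
  QCoh.isCoh_cokernel (QCoh.isQCoh_colimit (Discrete.functor fun _ : J => M) fun _ => hM.1) hM _

/-- The transition map. -/
abbrev trJ {J J' : Ideal A} (h : J' ≤ J) (M : X.Modules) : modJ J' M ⟶ modJ J M :=
  descJ (modJπ J M) (h.trans (le_killIdeal_modJ J M))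

/-- Composition on cohomology. -/
theorem mapLin_comp {M N P : X.Modules} (φ : M ⟶ N) (ψ : N ⟶ P) (p : ℕ) (x : Coh.HH X M p) :
    mapLin A ψ p (mapLin A φ p x) = mapLin A (φ ≫ ψ) p x :=
  Formal.HHmap_comp φ ψ p x

theorem mapLin_congr {M N : X.Modules} {φ ψ : M ⟶ N} (h : φ = ψ) (p : ℕ) (x : Coh.HH X M p) :
    mapLin A φ p x = mapLin A ψ p x := by rw [h]

/-- Coherent modules supported in a given set. -/
def InCls (Z : Set X) (M : X.Modules) : Prop := Coh.IsCoh M ∧ CohB1.support M ⊆ Z

theorem inCls_univ {M : X.Modules} (hM : Coh.IsCoh M) : InCls Set.univ M := ⟨hM, Set.subset_univ _⟩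

theorem InCls.modJ {Z : Set X} {M : X.Modules} (J : Ideal A) (h : InCls Z M) : InCls Z (modJ J M) :=
  ⟨isCoh_modJ J h.1, (QCoh.support_of_epi h.1.1 (isCoh_modJ J h.1).1 (modJπ J M)).trans h.2⟩

/-- The two halves of the formal function theorem for an ideal. -/
def Good (Z : Set X) (J : Ideal A) : Prop :=
  ∀ M : X.Modules, InCls Z M → ∀ p : ℕ,
    (∀ n : ℕ, ∃ k : ℕ, ∀ x : Coh.HH X M p, mapLin A (modJπ (J ^ k) M) p x = 0 →
      x ∈ J ^ n • (⊤ : Submodule A (Coh.HH X M p))) ∧
    (∀ n : ℕ, ∃ (k : ℕ) (h : n ≤ k), ∀ y : Coh.HH X (modJ (J ^ k) M) p,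
      ∃ z : Coh.HH X M p, mapLin A (modJπ (J ^ n) M) p z =
        mapLin A (trJ (Ideal.pow_le_pow_right h) M) p y)

end Groth.Agent.FFun
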