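import Groth.Agent.FFun.GenModule
import Groth.Agent.FFun.Basic
import Groth.Agent.QCoh.Bound
import Groth.Agent.QCoh.DevissageSum

/-!
# Cohomology of systems of coherent sheaves generated in bounded degrees
-/

universe u

set_option backward.isDefEq.respectTransparency false
set_option backward.isDefEq.respectTransparency.types false

open CategoryTheory CategoryTheory.Limits AlgebraicGeometry TopologicalSpace Opposite
open Groth.Agent.PnCoh.Finite (mapLin deltaLin)

noncomputable section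

attribute [local instance] Groth.Agent.QCoh.hasFiniteBiproducts

namespace Groth.Agent.FFun.Gen

variable {A : Type u} [CommRing A] {X : Scheme.{u}} [X.Over (Spec (CommRingCat.of A))] {r : ℕ}

/-- A sequence of modules with `r` commuting operators of degree one. -/
structure Sys (X : Scheme.{u}) (r : ℕ) where
  G : ℕ → X.Modules
  t : ∀ n, Fin r → (G n ⟶ G (n + 1))
  comm : ∀ n i j, t n j ≫ t (n + 1) i = t n i ≫ t (n + 1) j

variable (S : Sys X r)

/-- All the operators together. -/
abbrev Sys.tAll (n : ℕ) : (⨁ fun _ : ULift.{u} (Fin r) => S.G n) ⟶ S.G (n + 1) :=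
  biproduct.desc fun i => S.t n i.down

/-- Generated in degrees at most `d`. -/
def Sys.GenFrom (d : ℕ) : Prop := ∀ n, d ≤ n → Epi (S.tAll n)

variable (A) in
/-- Cohomology generated in degrees at most `d`. -/
def Sys.GenHH (p d : ℕ) : Prop :=
  ∀ n, d ≤ n → ⨆ i, LinearMap.range (mapLin A (S.t n i) p) = ⊤

/-- Shift of a system. -/
def Sys.shiftBy (d : ℕ) : Sys X r where
  G n := S.G (d + n)
  t n := S.t (d + n)
  comm n := S.comm (d + n)

theorem Sys.genFrom_shiftBy {d : ℕ} (h : S.GenFrom d) : (S.shiftBy d).GenFrom 0 :=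
  fun n _ => h (d + n) (Nat.le_add_right d n)

/-- The product of the operators along a monomial. -/
def Sys.word : ∀ n, Sym (Fin r) n → (S.G 0 ⟶ S.G n)
  | 0, _ => 𝟙 _
  | n + 1, s => Sys.word n (s.erase _ (Sym.exists_mem s).choose_spec) ≫ S.t n (Sym.exists_mem s).choose

theorem Sys.word_cons : ∀ (n : ℕ) (i : Fin r) (s : Sym (Fin r) n),
    S.word (n + 1) (i ::ₛ s) = S.word n s ≫ S.t n i := by
  intro n
  induction n with
  | zero =>
    intro i s
    show 𝟙 _ ≫ S.t 0 _ = 𝟙 _ ≫ S.t 0 i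
    generalize hb : (Sym.exists_mem (i ::ₛ s)).choose = b
    have hm : b ∈ i ::ₛ s := hb ▸ (Sym.exists_mem (i ::ₛ s)).choose_spec
    rcases Sym.mem_cons.1 hm with rfl | h
    · rfl
    · exact absurd h (by rw [Subsingleton.elim s Sym.nil]; exact Sym.notMem_nil b)
  | succ n ih =>
    intro i s
    show S.word (n + 1) ((i ::ₛ s).erase _ (Sym.exists_mem (i ::ₛ s)).choose_spec) ≫ S.t (n + 1) _ = _
    generalize (Sym.exists_mem (i ::ₛ s)).choose_spec = hm
    generalize (Sym.exists_mem (i ::ₛ s)).choose = a at hm ⊢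
    rcases Sym.mem_cons.1 hm with rfl | h
    · rw [Sym.erase_cons_head]
    · obtain ⟨s', rfl⟩ := Sym.exists_cons_of_mem h
      have e : (i ::ₛ a ::ₛ s').erase a hm = i ::ₛ s' := by
        have e2 := Sym.cons_erase hm
        exact (Sym.cons_inj_right a _ _).1 (e2.trans (Sym.cons_swap _ _ _))
      rw [e, ih i s', ih a s', Category.assoc, Category.assoc, S.comm n a i]

/-- The free system on one module. -/
abbrev frG (E : X.Modules) (r n : ℕ) : X.Modules := ⨁ fun _ : ULift.{u} (Sym (Fin r) n) => E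

/-- The free system on one module. -/
def Sys.free (E : X.Modules) (r : ℕ) : Sys X r where
  G n := frG E r n
  t n i := biproduct.desc fun s =>
    biproduct.ι (fun _ : ULift.{u} (Sym (Fin r) (n + 1)) => E) ⟨i ::ₛ s.down⟩
  comm n i j := by
    refine biproduct.hom_ext' _ _ fun s => ?_
    simp only [biproduct.ι_desc_assoc, biproduct.ι_desc]
    rw [Sym.cons_swap]

/-- The augmentation from the free system. -/
def Sys.aug (n : ℕ) : (Sys.free (S.G 0) r).G n ⟶ S.G n :=
  biproduct.desc fun s => S.word n s.down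

theorem Sys.aug_comm (n : ℕ) (i : Fin r) :
    (Sys.free (S.G 0) r).t n i ≫ S.aug (n + 1) = S.aug n ≫ S.t n i := by
  refine biproduct.hom_ext' _ _ fun s => ?_
  simp only [Sys.free, Sys.aug, biproduct.ι_desc_assoc, biproduct.ι_desc]
  exact S.word_cons n i s.down

theorem Sys.epi_aug (h : S.GenFrom 0) : ∀ n, Epi (S.aug n) := by
  intro n
  induction n with
  | zero =>
    refine Preadditive.epi_of_cancel_zero _ fun {Z} g hg => ?_
    have h1 := congrArg (fun z => biproduct.ι (fun _ : ULift.{u} (Sym (Fin r) 0) => S.G 0)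
      ⟨Sym.nil⟩ ≫ z) hg
    simp only [Sys.aug, biproduct.ι_desc_assoc, comp_zero] at h1
    exact (Category.id_comp g).symm.trans h1
  | succ n ih =>
    refine Preadditive.epi_of_cancel_zero _ fun {Z} g hg => ?_
    haveI := h n (Nat.zero_le n)
    rw [← cancel_epi (S.tAll n), comp_zero]
    refine biproduct.hom_ext' _ _ fun i => ?_
    rw [biproduct.ι_desc_assoc, comp_zero, ← cancel_epi (S.aug n), ← Category.assoc, ← S.aug_comm,
      Category.assoc, hg, comp_zero, comp_zero]

/-- The kernel of the augmentation. -/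
def Sys.rel : Sys X r where
  G n := kernel (S.aug n)
  t n i := kernel.map (S.aug n) (S.aug (n + 1)) ((Sys.free (S.G 0) r).t n i) (S.t n i)
    (S.aug_comm n i).symm
  comm n i j := by
    rw [← cancel_mono (kernel.ι (S.aug (n + 1 + 1)))]
    simp only [kernel.map, Category.assoc, kernel.lift_ι, kernel.lift_ι_assoc,
      (Sys.free (S.G 0) r).comm]

theorem Sys.rel_t_ι (n : ℕ) (i : Fin r) :
    S.rel.t n i ≫ kernel.ι (S.aug (n + 1)) = kernel.ι (S.aug n) ≫ (Sys.free (S.G 0) r).t n i :=
  kernel.lift_ι _ _ _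

theorem free_surjective {E : X.Modules} (n : ℕ) (U : X.Opens)
    (x : Γ(frG E r (n + 1), U)) :
    x = ∑ s : ULift.{u} (Sym (Fin r) (n + 1)),
      (biproduct.ι (fun _ : ULift.{u} (Sym (Fin r) (n + 1)) => E) s).app U
        ((biproduct.π (fun _ : ULift.{u} (Sym (Fin r) (n + 1)) => E) s).app U x) := by
  have h := QCoh.app_sum Finset.univ
    (fun b => biproduct.π (fun _ : ULift.{u} (Sym (Fin r) (n + 1)) => E) b ≫
      biproduct.ι (fun _ : ULift.{u} (Sym (Fin r) (n + 1)) => E) b) U x
  rw [QCoh.biproduct_total'] at h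
  simp only [Scheme.Modules.Hom.id_app, Scheme.Modules.Hom.comp_app] at h
  exact h

theorem exists_genFrom_rel [IsNoetherian X] (hS : ∀ n, Coh.IsCoh (S.G n)) :
    ∃ d, S.rel.GenFrom d := by
  classical
  obtain ⟨s, hs, hcov⟩ := isCompact_iff_finite_and_eq_biUnion_affineOpens.mp
    (show IsCompact ((⊤ : X.Opens) : Set X) by simpa using isCompact_univ)
  haveI := hs.to_subtype
  haveI := Fintype.ofFinite s
  have hcov' : ∀ x : X, ∃ i : s, x ∈ i.1.1 := fun x => by
    have hx : x ∈ (⊤ : X.Opens) := trivial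
    rw [hcov] at hx
    obtain ⟨V, hV, hxV⟩ := by simpa only [Opens.mem_iSup, exists_prop] using hx
    exact ⟨⟨V, hV⟩, hxV⟩
  have hF : ∀ n, Coh.IsCoh ((Sys.free (S.G 0) r).G n) := fun n =>
    QCoh.isCoh_biproduct _ fun _ => hS 0
  have hK : ∀ n, Coh.IsCoh (S.rel.G n) := fun n => QCoh.isCoh_kernel (hF n) (hS n) _
  have hd : ∀ V : s, ∃ d, ∀ n, d ≤ n → ∀ x : Γ(S.rel.G (n + 1), V.1.1),
      ∃ y : Fin r → Γ(S.rel.G n, V.1.1), x = ∑ i, (S.rel.t n i).app V.1.1 (y i) := fun V => by
    haveI := QCoh.noetherian_sections (X := X) V.1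
    haveI := fun n => QCoh.finite_sections (hF n) V.1.2
    let T : ∀ n, Fin r → (Γ((Sys.free (S.G 0) r).G n, V.1.1) →ₗ[Γ(X, V.1.1)]
        Γ((Sys.free (S.G 0) r).G (n + 1), V.1.1)) := fun n i =>
      { toFun := ((Sys.free (S.G 0) r).t n i).app V.1.1
        map_add' := map_add _
        map_smul' := Scheme.Modules.Hom.app_smul _ }
    let M : ∀ n, Submodule Γ(X, V.1.1) Γ((Sys.free (S.G 0) r).G n, V.1.1) := fun n =>
      LinearMap.ker ({ toFun := (S.aug n).app V.1.1
                       map_add' := map_add _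
                       map_smul' := Scheme.Modules.Hom.app_smul _ } :
        Γ((Sys.free (S.G 0) r).G n, V.1.1) →ₗ[Γ(X, V.1.1)] Γ(S.G n, V.1.1))
    have hT : ∀ n i j x, T (n + 1) i (T n j x) = T (n + 1) j (T n i x) := fun n i j x =>
      congr(($((Sys.free (S.G 0) r).comm n i j)).app V.1.1 x)
    obtain ⟨d, hd⟩ := exists_gen_sub T hT (d₀ := 0) (fun n _ => eq_top_iff.2 fun x _ => by
        rw [free_surjective n V.1.1 x]
        refine Submodule.sum_mem _ fun b _ => ?_
        obtain ⟨i, b', hb⟩ := Sym.exists_eq_cons_of_succ b.down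
        refine le_iSup (fun i => LinearMap.range (T n i)) i
          ⟨(biproduct.ι (fun _ : ULift.{u} (Sym (Fin r) n) => S.G 0) ⟨b'⟩).app V.1.1
            ((biproduct.π (fun _ : ULift.{u} (Sym (Fin r) (n + 1)) => S.G 0) b).app V.1.1 x), ?_⟩
        have hb' : b = ⟨i ::ₛ b'⟩ := ULift.ext _ _ hb
        refine (congr(($(biproduct.ι_desc (fun s : ULift.{u} (Sym (Fin r) n) =>
          biproduct.ι (fun _ : ULift.{u} (Sym (Fin r) (n + 1)) => S.G 0) ⟨i ::ₛ s.down⟩)
            ⟨b'⟩)).app V.1.1 _) : _).trans ?_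
        rw [hb']) M
      (fun n i x hx => by
        show (S.aug (n + 1)).app V.1.1 (((Sys.free (S.G 0) r).t n i).app V.1.1 x) = 0
        refine (congr(($(S.aug_comm n i)).app V.1.1 x) : _).trans ?_
        exact (congrArg ((S.t n i).app V.1.1) (hx : (S.aug n).app V.1.1 x = 0)).trans (map_zero _))
    refine ⟨d, fun n hn x => ?_⟩
    have hx : (kernel.ι (S.aug (n + 1))).app V.1.1 x ∈ M (n + 1) :=
      congr(($(kernel.condition (S.aug (n + 1)))).app V.1.1 x)
    obtain ⟨f, hf, hfsum⟩ := Submodule.mem_iSup_iff_exists_finsupp _ _ |>.1 (hd n hn hx)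
    choose w hw hwf using fun i => hf i
    choose y hy using fun i => QCoh.exists_kernel_lift (S.aug n) V.1.1 (w i) (hw i)
    refine ⟨y, QCoh.app_injective (kernel.ι (S.aug (n + 1))) V.1.1 ?_⟩
    rw [map_sum, ← hfsum, Finsupp.sum_fintype _ _ (fun _ => rfl)]
    refine Finset.sum_congr rfl fun i _ => ?_
    refine (hwf i).symm.trans ?_
    rw [← hy i]
    exact (congr(($(S.rel_t_ι n i)).app V.1.1 (y i)) : _).symm
  choose d hd using hd
  refine ⟨Finset.univ.sup d, fun n hn => ?_⟩
  have hD : Coh.IsCoh (⨁ fun _ : ULift.{u} (Fin r) => S.rel.G n) :=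
    QCoh.isCoh_biproduct _ fun _ => hK n
  have hC := QCoh.isCoh_cokernel hD.1 (hK (n + 1)) (S.rel.tAll n)
  refine Preadditive.epi_of_isZero_cokernel _ (QCoh.isZero_of_cover hC.1 (fun V : s => V.1.1)
    (fun V => V.1.2) hcov' fun V => subsingleton_of_forall_eq 0 fun c => ?_)
  obtain ⟨x, rfl⟩ := QCoh.app_surjective_of_epi (hK (n + 1)).1 hC.1 (cokernel.π (S.rel.tAll n)) V.1.2 c
  obtain ⟨y, rfl⟩ := hd V n ((Finset.le_sup (Finset.mem_univ V)).trans hn) x
  rw [map_sum]
  refine Finset.sum_eq_zero fun i _ => ?_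
  have e : S.rel.t n i ≫ cokernel.π (S.rel.tAll n) = 0 := by
    rw [← biproduct.ι_desc (fun i : ULift.{u} (Fin r) => S.rel.t n i.down) ⟨i⟩, Category.assoc]
    exact (congrArg _ (cokernel.condition _)).trans comp_zero
  exact congr(($e).app V.1.1 (y i))

variable [IsNoetherianRing A]

theorem HH_comm (p n : ℕ) (i j : Fin r) (x : Coh.HH X (S.G n) p) :
    mapLin A (S.t (n + 1) i) p (mapLin A (S.t n j) p x) =
      mapLin A (S.t (n + 1) j) p (mapLin A (S.t n i) p x) := by
  rw [mapLin_comp, mapLin_comp, S.comm]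

/-- A family of submodules of the cohomology stable under the operators is generated in bounded
degrees. -/
theorem exists_gen_HH_sub {p d₀ : ℕ} (hfin : ∀ n, Module.Finite A (Coh.HH X (S.G n) p))
    (hgen : S.GenHH A p d₀) (M : ∀ n, Submodule A (Coh.HH X (S.G n) p))
    (hM : ∀ n i, ∀ x ∈ M n, mapLin A (S.t n i) p x ∈ M (n + 1)) :
    ∃ d, ∀ n, d ≤ n → M (n + 1) ≤ ⨆ i, (M n).map (mapLin A (S.t n i) p) :=
  exists_gen_sub (R := A) (fun n i => mapLin A (S.t n i) p) (HH_comm S p) hgen M hM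

theorem genHH_free (E : X.Modules) (p : ℕ) : (Sys.free E r).GenHH A p 0 := fun n _ =>
  eq_top_iff.2 fun x _ => by
    classical
    let T := fun _ : ULift.{u} (Sym (Fin r) (n + 1)) => E
    have hx : x = ∑ b, mapLin A (biproduct.π T b ≫ biproduct.ι T b) p x := by
      have h2 : ∀ s : Finset (ULift.{u} (Sym (Fin r) (n + 1))),
          mapLin A (∑ b ∈ s, biproduct.π T b ≫ biproduct.ι T b) p x =
            ∑ b ∈ s, mapLin A (biproduct.π T b ≫ biproduct.ι T b) p x := fun s => by
        induction s using Finset.induction with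
        | empty =>
          rw [Finset.sum_empty, Finset.sum_empty]
          show Sheaf.H.map ((QCoh.toAbFunctor X).map 0) p x = 0
          rw [Functor.map_zero]
          show ((Sheaf.functorH _ p).map 0).hom x = 0
          rw [Functor.map_zero]
          rfl
        | insert a s ha ih =>
          rw [Finset.sum_insert ha, Finset.sum_insert ha, ← ih]
          show Sheaf.H.map ((QCoh.toAbFunctor X).map (_ + _)) p x = _
          rw [Functor.map_add, Sheaf.H.map_add_apply]
          rfl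
      rw [← h2, QCoh.biproduct_total']
      show x = Sheaf.H.map ((QCoh.toAbFunctor X).map (𝟙 _)) p x
      rw [CategoryTheory.Functor.map_id, Sheaf.H.map_id_apply]
    rw [hx]
    refine Submodule.sum_mem _ fun b _ => ?_
    obtain ⟨i, b', hb⟩ := Sym.exists_eq_cons_of_succ b.down
    obtain rfl : b = ⟨i ::ₛ b'⟩ := ULift.ext _ _ hb
    refine le_iSup (fun i => LinearMap.range (mapLin A ((Sys.free E r).t n i) p)) i
      ⟨mapLin A (biproduct.π T ⟨i ::ₛ b'⟩ ≫
        biproduct.ι (fun _ : ULift.{u} (Sym (Fin r) n) => E) ⟨b'⟩) p x, ?_⟩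
    refine (mapLin_comp (A := A) _ ((Sys.free E r).t n i) p x).trans ?_
    refine mapLin_congr ?_ p x
    rw [Category.assoc]
    exact congrArg _ (biproduct.ι_desc (fun s : ULift.{u} (Sym (Fin r) n) =>
      biproduct.ι (fun _ : ULift.{u} (Sym (Fin r) (n + 1)) => E) ⟨i ::ₛ s.down⟩) ⟨b'⟩)

/-- The cohomology of a coherent system generated in bounded degrees is generated in bounded
degrees. -/
theorem exists_genHH [IsNoetherian X]
    (hfin : ∀ M : X.Modules, Coh.IsCoh M → ∀ p, Module.Finite A (Coh.HH X M p)) (p : ℕ) :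
    ∀ S : Sys X r, (∀ n, Coh.IsCoh (S.G n)) → ∀ d, S.GenFrom d → ∃ e, S.GenHH A p e := by
  obtain ⟨B, hB⟩ := QCoh.exists_HH_bound (X := X)
  suffices h : ∀ k, ∀ q, B ≤ q + k → ∀ S : Sys X r, (∀ n, Coh.IsCoh (S.G n)) → ∀ d,
      S.GenFrom d → ∃ e, S.GenHH A q e from h B p (Nat.le_add_left B p)
  intro k
  induction k with
  | zero =>
    intro q hq S hS d _
    refine ⟨0, fun n _ => ?_⟩
    haveI := hB _ (hS (n + 1)).1 q (by omega)
    exact eq_top_iff.2 fun x _ => by rw [Subsingleton.elim x 0]; exact zero_mem _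
  | succ k ih =>
    intro q hq S hS d hd
    suffices h : ∃ e, (S.shiftBy d).GenHH A q e by
      obtain ⟨e, he⟩ := h
      refine ⟨d + e, fun m hm => ?_⟩
      obtain ⟨n, rfl⟩ := Nat.exists_eq_add_of_le (show d ≤ m by omega)
      exact he n (by omega)
    let W := S.shiftBy d
    have hW : ∀ n, Coh.IsCoh (W.G n) := fun n => hS (d + n)
    have hg : W.GenFrom 0 := S.genFrom_shiftBy hd
    have hF : ∀ n, Coh.IsCoh ((Sys.free (W.G 0) r).G n) := fun n =>
      QCoh.isCoh_biproduct _ fun _ => hW 0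
    have hK : ∀ n, Coh.IsCoh (W.rel.G n) := fun n => QCoh.isCoh_kernel (hF n) (hW n) _
    have hses : ∀ n, (ShortComplex.mk (kernel.ι (W.aug n)) (W.aug n) (kernel.condition _)).ShortExact :=
      fun n =>
        haveI := W.epi_aug hg n
        { exact := ShortComplex.exact_kernel _, mono_f := inferInstance, epi_g := inferInstance }
    obtain ⟨d', hd'⟩ := exists_genFrom_rel W hW
    obtain ⟨e, he⟩ := ih (q + 1) (by omega) W.rel hK d' hd'
    let δ := fun n => deltaLin A (hses n) q
    have hnat : ∀ n i (y : Coh.HH X (W.G n) q),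
        δ (n + 1) (mapLin A (W.t n i) q y) = mapLin A (W.rel.t n i) (q + 1) (δ n y) := fun n i y => by
      let φ : ShortComplex.mk (kernel.ι (W.aug n)) (W.aug n) (kernel.condition _) ⟶
          ShortComplex.mk (kernel.ι (W.aug (n + 1))) (W.aug (n + 1)) (kernel.condition _) :=
        { τ₁ := W.rel.t n i
          τ₂ := (Sys.free (W.G 0) r).t n i
          τ₃ := W.t n i
          comm₁₂ := W.rel_t_ι n i
          comm₂₃ := W.aug_comm n i }
      exact (QCoh.Ab.connecting_naturality (X := X.toPresheafedSpace.carrier)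
        (QCoh.toAb_shortExact (hses n)) (QCoh.toAb_shortExact (hses (n + 1)))
        ((QCoh.toAbFunctor X).mapShortComplex.map φ) q y).symm
    obtain ⟨e', he'⟩ := exists_gen_HH_sub W.rel (fun n => hfin _ (hK n) _) he
      (fun n => LinearMap.range (δ n)) (by rintro n i _ ⟨y, rfl⟩; exact ⟨_, hnat n i y⟩)
    refine ⟨e', fun n hn => eq_top_iff.2 fun y _ => ?_⟩
    obtain ⟨f, hf, hfsum⟩ := Submodule.mem_iSup_iff_exists_finsupp _ _ |>.1
      (he' n hn ⟨y, rfl⟩ : δ (n + 1) y ∈ _)
    choose w hw hwf using fun i => hf i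
    choose z hz using hw
    let y' := ∑ i, mapLin A (W.t n i) q (z i)
    have hy' : δ (n + 1) (y - y') = 0 := by
      rw [map_sub, map_sum, ← hfsum, Finsupp.sum_fintype _ _ (fun _ => rfl), sub_eq_zero]
      refine Finset.sum_congr rfl fun i _ => ?_
      exact ((hnat n i (z i)).trans ((congrArg _ (hz i)).trans (hwf i))).symm
    obtain ⟨u, hu⟩ := Groth.Agent.PnCoh.Finite.exists_of_deltaLin_eq_zero A (hses (n + 1)) q hy'
    rw [← sub_add_cancel y y', ← hu]
    refine add_mem ?_ (Submodule.sum_mem _ fun i _ =>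
      le_iSup (fun i => LinearMap.range (mapLin A (W.t n i) q)) i ⟨z i, rfl⟩)
    have hu' : u ∈ ⨆ i, LinearMap.range (mapLin A ((Sys.free (W.G 0) r).t n i) q) := by
      rw [genHH_free (W.G 0) q n (Nat.zero_le n)]; exact Submodule.mem_top
    have h := Submodule.mem_map_of_mem (f := mapLin A (W.aug (n + 1)) q) hu'
    rw [Submodule.map_iSup] at h
    refine (iSup_mono fun i => ?_ :
      (⨆ i, (LinearMap.range (mapLin A ((Sys.free (W.G 0) r).t n i) q)).map
        (mapLin A (W.aug (n + 1)) q)) ≤ ⨆ i, LinearMap.range (mapLin A (W.t n i) q)) h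
    rintro _ ⟨_, ⟨v, rfl⟩, rfl⟩
    refine ⟨mapLin A (W.aug n) q v, ?_⟩
    rw [mapLin_comp, mapLin_comp, W.aug_comm]

end Groth.Agent.FFun.Gen
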