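import Mathlib.RingTheory.Polynomial.Basic
import Mathlib.RingTheory.TensorProduct.Finite
import Mathlib.LinearAlgebra.TensorProduct.Associator
import Mathlib.Data.Fintype.Vector
import Mathlib.Data.Finsupp.Multiset
import Mathlib.LinearAlgebra.Pi

/-!
# Submodules of a system generated in bounded degrees are generated in bounded degrees
-/

universe u v

open TensorProduct MvPolynomial

noncomputable section

namespace Groth.Agent.FFun.Gen

variable {r : ℕ} {R : Type u} [CommRing R]

section Shift

variable {N : Type v} [AddCommGroup N] [Module R N]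

/-- The exponents of a monomial given as a symmetric power. -/
def exps {n : ℕ} (s : Sym (Fin r) n) : Fin r →₀ ℕ := Multiset.toFinsupp (s : Multiset (Fin r))

theorem exps_cons {n : ℕ} (i : Fin r) (s : Sym (Fin r) n) :
    exps (i ::ₛ s) = exps s + Finsupp.single i 1 := by
  rw [exps, exps, Sym.coe_cons, ← Multiset.singleton_add, map_add, add_comm,
    Multiset.toFinsupp_singleton]

theorem exps_inj {k n : ℕ} {s : Sym (Fin r) k} {s' : Sym (Fin r) n} (h : exps s = exps s') :
    k = n ∧ HEq s s' := by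
  have h' : (s : Multiset (Fin r)) = (s' : Multiset (Fin r)) := Multiset.toFinsupp.injective h
  obtain rfl : k = n := by rw [← s.2, ← s'.2]; exact congrArg Multiset.card h'
  exact ⟨rfl, heq_of_eq (Sym.coe_injective h')⟩

/-- Multiplication by a variable on families indexed by monomials. -/
def shift (R : Type u) [CommRing R] {N : Type v} [AddCommGroup N] [Module R N] (n : ℕ) (i : Fin r) :
    (Sym (Fin r) n → N) →ₗ[R] (Sym (Fin r) (n + 1) → N) where
  toFun v s := if h : i ∈ s then v (s.erase i h) else 0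
  map_add' v w := funext fun s => by by_cases h : i ∈ s <;> simp [h]
  map_smul' c v := funext fun s => by by_cases h : i ∈ s <;> simp [h]

theorem shift_single (n : ℕ) (i : Fin r) (s : Sym (Fin r) n) (x : N) :
    shift R n i (Pi.single s x) = Pi.single (i ::ₛ s) x := by
  funext t
  show (if h : i ∈ t then (Pi.single s x : Sym (Fin r) n → N) (t.erase i h) else 0) = _
  by_cases ht : t = i ::ₛ s
  · subst ht
    rw [dif_pos (Sym.mem_cons_self _ _), Sym.erase_cons_head, Pi.single_eq_same, Pi.single_eq_same]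
  · rw [Pi.single_eq_of_ne ht]
    by_cases h : i ∈ t
    · rw [dif_pos h, Pi.single_eq_of_ne]
      intro hs
      exact ht (by rw [← hs, Sym.cons_erase])
    · rw [dif_neg h]

/-- The families of degree `n`, inside the polynomial module. -/
def emb (R : Type u) [CommRing R] {N : Type v} [AddCommGroup N] [Module R N] (n : ℕ) :
    (Sym (Fin r) n → N) →ₗ[R] MvPolynomial (Fin r) R ⊗[R] N :=
  ∑ s : Sym (Fin r) n, (TensorProduct.mk R _ N (monomial (exps s) 1)).comp (LinearMap.proj s)

theorem emb_single {n : ℕ} (s : Sym (Fin r) n) (x : N) :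
    emb R n (Pi.single s x) = monomial (exps s) (1 : R) ⊗ₜ[R] x := by
  rw [emb, LinearMap.sum_apply, Finset.sum_eq_single s]
  · simp
  · intro b _ hb
    simp [Pi.single_eq_of_ne hb]
  · simp

theorem X_smul_emb (n : ℕ) (i : Fin r) (v : Sym (Fin r) n → N) :
    (X i : MvPolynomial (Fin r) R) • emb R n v = emb R (n + 1) (shift R n i v) := by
  classical
  have h : ∀ v, (DistribMulAction.toLinearMap R (MvPolynomial (Fin r) R ⊗[R] N)
      (X i : MvPolynomial (Fin r) R)).comp (emb R n) v =
      (emb R (n + 1)).comp (shift R n i) v := by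
    refine LinearMap.congr_fun (LinearMap.pi_ext fun s x => ?_)
    rw [LinearMap.comp_apply, LinearMap.comp_apply, shift_single, emb_single, emb_single]
    show (X i : MvPolynomial (Fin r) R) • (monomial (exps s) (1 : R) ⊗ₜ[R] x) = _
    rw [smul_tmul', smul_eq_mul, exps_cons, X, monomial_mul, mul_one, add_comm]
  exact h v

/-- The component of degree `n`. -/
def comp' (R : Type u) [CommRing R] {N : Type v} [AddCommGroup N] [Module R N] (n : ℕ) :
    MvPolynomial (Fin r) R ⊗[R] N →ₗ[R] (Sym (Fin r) n → N) :=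
  LinearMap.pi fun s => (TensorProduct.lid R N).toLinearMap.comp ((lcoeff R (exps s)).rTensor N)

theorem comp'_tmul (n : ℕ) (s : Sym (Fin r) n) (p : MvPolynomial (Fin r) R) (x : N) :
    comp' R n (p ⊗ₜ[R] x) s = coeff (exps s) p • x := by
  simp [comp', lcoeff]

theorem comp'_emb (n : ℕ) (v : Sym (Fin r) n → N) : comp' R n (emb R n v) = v := by
  classical
  have h : ∀ v, (comp' R n).comp (emb R n) v = LinearMap.id (R := R) (M := Sym (Fin r) n → N) v := by
    refine LinearMap.congr_fun (LinearMap.pi_ext fun s x => funext fun t => ?_)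
    rw [LinearMap.comp_apply, emb_single, comp'_tmul, LinearMap.id_apply, coeff_monomial]
    by_cases hts : t = s
    · subst hts; simp
    · rw [Pi.single_eq_of_ne hts, if_neg, zero_smul]
      exact fun he => hts (eq_of_heq (exps_inj he).2).symm
  exact h v

theorem comp'_emb_ne {n k : ℕ} (h : k ≠ n) (v : Sym (Fin r) k → N) : comp' R n (emb R k v) = 0 := by
  classical
  have h' : ∀ v, (comp' R n).comp (emb R k) v =
      (0 : (Sym (Fin r) k → N) →ₗ[R] (Sym (Fin r) n → N)) v := by
    refine LinearMap.congr_fun (LinearMap.pi_ext fun s x => funext fun t => ?_)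
    rw [LinearMap.comp_apply, emb_single, comp'_tmul, coeff_monomial, if_neg, zero_smul]
    · rfl
    · exact fun he => h (exps_inj he).1
  exact h' v

theorem smul_emb_eq (c : R) (m : MvPolynomial (Fin r) R ⊗[R] N) :
    (C c : MvPolynomial (Fin r) R) • m = c • m := by
  rw [← algebraMap_eq, algebraMap_smul]

theorem comp'_smul_emb_of_lt (p : MvPolynomial (Fin r) R) :
    ∀ {n k : ℕ}, n < k → ∀ v : Sym (Fin r) k → N, comp' R n (p • emb R k v) = 0 := by
  induction p using MvPolynomial.induction_on with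
  | C c =>
    intro n k hk v
    rw [smul_emb_eq, map_smul, comp'_emb_ne (by omega), smul_zero]
  | add p q hp hq =>
    intro n k hk v
    rw [add_smul, map_add, hp hk, hq hk, add_zero]
  | mul_X p i hp =>
    intro n k hk v
    rw [mul_smul, X_smul_emb]
    exact hp (by omega) _

theorem comp'_smul_emb_self (p : MvPolynomial (Fin r) R) :
    ∀ (n : ℕ) (v : Sym (Fin r) n → N), comp' R n (p • emb R n v) = constantCoeff p • v := by
  induction p using MvPolynomial.induction_on with
  | C c =>
    intro n v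
    rw [smul_emb_eq, map_smul, comp'_emb, constantCoeff_C]
  | add p q hp hq =>
    intro n v
    rw [add_smul, map_add, hp, hq, map_add, add_smul]
  | mul_X p i hp =>
    intro n v
    rw [mul_smul, X_smul_emb, comp'_smul_emb_of_lt p (Nat.lt_succ_self n), map_mul,
      constantCoeff_X, mul_zero, zero_smul]

/-- A family of submodules stable under the shifts is generated in bounded degrees. -/
theorem exists_gen_shift [IsNoetherianRing R] [Module.Finite R N]
    (K : ∀ n, Submodule R (Sym (Fin r) n → N))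
    (hK : ∀ n i, ∀ v ∈ K n, shift R n i v ∈ K (n + 1)) :
    ∃ d, ∀ n, d ≤ n → K (n + 1) ≤ ⨆ i, (K n).map (shift R n i) := by
  let P := MvPolynomial (Fin r) R
  let F : ℕ → Submodule P (P ⊗[R] N) := fun k => Submodule.span P (emb R k '' (K k : Set _))
  let L : ℕ →o Submodule P (P ⊗[R] N) :=
    ⟨fun d => ⨆ k : {k : ℕ // k ≤ d}, F k.1, fun a b hab =>
      iSup_le fun k => le_iSup (fun k : {k : ℕ // k ≤ b} => F k.1) ⟨k.1, k.2.trans hab⟩⟩
  obtain ⟨d, hd⟩ := monotone_stabilizes_iff_noetherian.2
    (inferInstance : IsNoetherian P (P ⊗[R] N)) L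
  refine ⟨d, fun n hn x hx => ?_⟩
  let S : Submodule R (Sym (Fin r) (n + 1) → N) := ⨆ i, (K n).map (shift R n i)
  have key : ∀ (p : P) (k : ℕ), k ≤ n → ∀ v ∈ K k, comp' R (n + 1) (p • emb R k v) ∈ S := by
    intro p
    induction p using MvPolynomial.induction_on with
    | C c =>
      intro k hk v _
      rw [smul_emb_eq, map_smul, comp'_emb_ne (by omega), smul_zero]
      exact zero_mem _
    | add p q hp hq =>
      intro k hk v hv
      rw [add_smul, map_add]
      exact add_mem (hp k hk v hv) (hq k hk v hv)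
    | mul_X p i hp =>
      intro k hk v hv
      rw [mul_smul, X_smul_emb]
      rcases hk.lt_or_eq with hlt | heq
      · exact hp (k + 1) hlt _ (hK k i v hv)
      · subst heq
        rw [comp'_smul_emb_self]
        exact Submodule.smul_mem _ _
          (le_iSup (fun i => (K k).map (shift R k i)) i ⟨v, hv, rfl⟩)
  have h1 : emb R (n + 1) x ∈ L d := by
    rw [hd (n + 1) (by omega)]
    exact le_iSup (fun k : {k : ℕ // k ≤ n + 1} => F k.1) ⟨n + 1, le_rfl⟩
      (Submodule.subset_span ⟨x, hx, rfl⟩)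
  let T : Submodule P (P ⊗[R] N) :=
    { carrier := {m | ∀ p : P, comp' R (n + 1) (p • m) ∈ S}
      zero_mem' := fun p => by rw [smul_zero, map_zero]; exact zero_mem _
      add_mem' := fun {a b} ha hb p => by rw [smul_add, map_add]; exact add_mem (ha p) (hb p)
      smul_mem' := fun c m hm p => by rw [← mul_smul]; exact hm _ }
  have h2 : L d ≤ T := iSup_le fun k => Submodule.span_le.2 fun m ⟨v, hv, hm⟩ p =>
    hm ▸ key p k.1 (k.2.trans hn) v hv
  have h3 := h2 h1 1
  rw [one_smul, comp'_emb] at h3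
  exact h3

end Shift

section System

variable {H : ℕ → Type v} [∀ n, AddCommGroup (H n)] [∀ n, Module R (H n)]
  (T : ∀ n, Fin r → (H n →ₗ[R] H (n + 1)))

/-- The product of the operators along a monomial. -/
def word : ∀ n, Sym (Fin r) n → (H 0 →ₗ[R] H n)
  | 0, _ => LinearMap.id
  | n + 1, s => (T n (Sym.exists_mem s).choose).comp
      (word n (s.erase _ (Sym.exists_mem s).choose_spec))

theorem word_cons (hT : ∀ n i j x, T (n + 1) i (T n j x) = T (n + 1) j (T n i x)) :
    ∀ (n : ℕ) (i : Fin r) (s : Sym (Fin r) n) (x : H 0),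
      word T (n + 1) (i ::ₛ s) x = T n i (word T n s x) := by
  intro n
  induction n with
  | zero =>
    intro i s x
    show T 0 _ x = T 0 i x
    generalize hb : (Sym.exists_mem (i ::ₛ s)).choose = b
    have hm : b ∈ i ::ₛ s := hb ▸ (Sym.exists_mem (i ::ₛ s)).choose_spec
    rcases Sym.mem_cons.1 hm with rfl | h
    · rfl
    · exact absurd h (by rw [Subsingleton.elim s Sym.nil]; exact Sym.notMem_nil b)
  | succ n ih =>
    intro i s x
    show T (n + 1) _ (word T (n + 1) ((i ::ₛ s).erase _ (Sym.exists_mem (i ::ₛ s)).choose_spec) x) = _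
    generalize (Sym.exists_mem (i ::ₛ s)).choose_spec = hm
    generalize (Sym.exists_mem (i ::ₛ s)).choose = a at hm ⊢
    rcases Sym.mem_cons.1 hm with rfl | h
    · rw [Sym.erase_cons_head]
    · obtain ⟨s', rfl⟩ := Sym.exists_cons_of_mem h
      have e : (i ::ₛ a ::ₛ s').erase a hm = i ::ₛ s' := by
        have e' : i ::ₛ a ::ₛ s' = a ::ₛ i ::ₛ s' := Sym.cons_swap _ _ _
        have e2 := Sym.cons_erase hm
        exact (Sym.cons_inj_right a _ _).1 (e2.trans e')
      rw [e, ih i s' x, ih a s' x]
      exact hT n a i _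

/-- Submodules of a finitely generated system stable under the operators are generated in bounded
degrees. -/
theorem exists_gen_sub [IsNoetherianRing R] [∀ n, Module.Finite R (H n)]
    (hT : ∀ n i j x, T (n + 1) i (T n j x) = T (n + 1) j (T n i x))
    {d₀ : ℕ} (hgen : ∀ n, d₀ ≤ n → ⨆ i, LinearMap.range (T n i) = ⊤)
    (M : ∀ n, Submodule R (H n)) (hM : ∀ n i, ∀ x ∈ M n, T n i x ∈ M (n + 1)) :
    ∃ d, ∀ n, d ≤ n → M (n + 1) ≤ ⨆ i, (M n).map (T n i) := by
  classical
  let H' : ℕ → Type v := fun n => H (d₀ + n)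
  let T' : ∀ n, Fin r → (H' n →ₗ[R] H' (n + 1)) := fun n => T (d₀ + n)
  have hT' : ∀ n i j x, T' (n + 1) i (T' n j x) = T' (n + 1) j (T' n i x) := fun n => hT (d₀ + n)
  let Ψ : ∀ n, (Sym (Fin r) n → H' 0) →ₗ[R] H' n := fun n =>
    ∑ s, (word T' n s).comp (LinearMap.proj s)
  have hΨs : ∀ n (s : Sym (Fin r) n) (x : H' 0), Ψ n (Pi.single s x) = word T' n s x := fun n s x => by
    simp only [Ψ, LinearMap.sum_apply, LinearMap.comp_apply, LinearMap.proj_apply]
    rw [Finset.sum_eq_single s]
    · rw [Pi.single_eq_same]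
    · intro b _ hb
      rw [Pi.single_eq_of_ne hb, map_zero]
    · simp
  have hΨ : ∀ n i v, Ψ (n + 1) (shift R n i v) = T' n i (Ψ n v) := fun n i => by
    refine LinearMap.congr_fun (f := (Ψ (n + 1)).comp (shift R n i)) (g := (T' n i).comp (Ψ n))
      (LinearMap.pi_ext fun s x => ?_)
    rw [LinearMap.comp_apply, LinearMap.comp_apply, shift_single, hΨs, hΨs, word_cons T' hT']
  have hsurj : ∀ n, Function.Surjective (Ψ n) := by
    intro n
    induction n with
    | zero => exact fun x => ⟨Pi.single Sym.nil x, (hΨs 0 _ x).trans rfl⟩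
    | succ n ih =>
      intro x
      have hx : x ∈ LinearMap.range (Ψ (n + 1)) := by
        refine (iSup_le fun i => ?_ : ⨆ i, LinearMap.range (T (d₀ + n) i) ≤ LinearMap.range (Ψ (n + 1)))
          (by rw [hgen _ (Nat.le_add_right _ _)]; exact Submodule.mem_top)
        rintro _ ⟨y, rfl⟩
        obtain ⟨v, rfl⟩ := ih y
        exact ⟨shift R n i v, hΨ n i v⟩
      exact hx
  haveI : Module.Finite R (H' 0) := inferInstanceAs (Module.Finite R (H (d₀ + 0)))
  let K : ∀ n, Submodule R (Sym (Fin r) n → H' 0) := fun n => (M (d₀ + n)).comap (Ψ n)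
  obtain ⟨d, hd⟩ := exists_gen_shift K fun n i v hv => by
    show Ψ (n + 1) (shift R n i v) ∈ M (d₀ + n + 1)
    rw [hΨ]
    exact hM _ i _ hv
  refine ⟨d₀ + d, fun m hm x hx => ?_⟩
  obtain ⟨n, rfl⟩ := Nat.exists_eq_add_of_le (show d₀ ≤ m by omega)
  obtain ⟨v, hv⟩ := hsurj (n + 1) x
  have hvK : v ∈ K (n + 1) := by
    show Ψ (n + 1) v ∈ M (d₀ + (n + 1))
    rw [hv]
    exact hx
  have h := Submodule.mem_map_of_mem (f := Ψ (n + 1)) (hd n (by omega) hvK)
  rw [hv, Submodule.map_iSup] at h
  refine (iSup_mono fun i => ?_ : (⨆ i, ((K n).map (shift R n i)).map (Ψ (n + 1))) ≤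
    ⨆ i, (M (d₀ + n)).map (T (d₀ + n) i)) h
  rintro _ ⟨_, ⟨w, hw, rfl⟩, rfl⟩
  exact ⟨Ψ n w, hw, (hΨ n i w).symm⟩

end System

end Groth.Agent.FFun.Gen
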