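import Mathlib.RingTheory.AdicCompletion.Basic

/-!
# Completion against the limit of a tower of modules
-/

universe u v w

noncomputable section

namespace Groth.Agent.FFun.Tower

variable {A : Type u} [CommRing A] {I : Ideal A} {H : Type v} [AddCommGroup H] [Module A H]
  {G : ℕ → Type w} [∀ n, AddCommGroup (G n)] [∀ n, Module A (G n)]
  (π : ∀ n, H →ₗ[A] G n) (t : ∀ n, G (n + 1) →+ G n) (L : AddSubgroup (∀ n, G n))

/-- The map from the quotient to the `n`-th term. -/
def qmap (hI : ∀ n, ∀ a ∈ I ^ (n + 1), ∀ y : G n, a • y = 0) (n : ℕ) :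
    (H ⧸ (I ^ (n + 1) • ⊤ : Submodule A H)) →ₗ[A] G n :=
  Submodule.liftQ _ (π n) (Submodule.smul_le.2 fun a ha x _ => by
    rw [LinearMap.mem_ker, map_smul]
    exact hI n a ha _)

variable {π t L}

theorem qmap_mk {hI : ∀ n, ∀ a ∈ I ^ (n + 1), ∀ y : G n, a • y = 0} (n : ℕ) (x : H) :
    qmap π hI n (Submodule.Quotient.mk x) = π n x := rfl

/-- The comparison map. -/
def comp (hI : ∀ n, ∀ a ∈ I ^ (n + 1), ∀ y : G n, a • y = 0)
    (ht : ∀ n x, t n (π (n + 1) x) = π n x) (hL : ∀ x, x ∈ L ↔ ∀ n, t n (x (n + 1)) = x n) :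
    AdicCompletion I H →+ L where
  toFun ξ := ⟨fun n => qmap π hI n (ξ.val (n + 1)), (hL _).2 fun n => by
    obtain ⟨h, hh⟩ := Submodule.Quotient.mk_surjective _ (ξ.val (n + 1 + 1))
    have hp : AdicCompletion.transitionMap I _ (Nat.le_succ (n + 1)) (ξ.val (n + 1 + 1)) = ξ.val (n + 1) :=
      ξ.property (Nat.le_succ (n + 1))
    rw [← hh] at hp ⊢
    rw [qmap_mk, ht]
    exact congrArg (qmap π hI n) hp⟩
  map_zero' := Subtype.ext (funext fun n => map_zero (qmap π hI n))
  map_add' ξ ξ' := Subtype.ext (funext fun n => map_add (qmap π hI n) _ _)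

theorem comp_of {hI : ∀ n, ∀ a ∈ I ^ (n + 1), ∀ y : G n, a • y = 0}
    {ht : ∀ n x, t n (π (n + 1) x) = π n x} {hL : ∀ x, x ∈ L ↔ ∀ n, t n (x (n + 1)) = x n}
    (x : H) (n : ℕ) : (comp hI ht hL (AdicCompletion.of I H x)).1 n = π n x := rfl

theorem ker_mono (ht : ∀ n x, t n (π (n + 1) x) = π n x) {n k : ℕ} (h : n ≤ k) {x : H}
    (hx : π k x = 0) : π n x = 0 := by
  induction k, h using Nat.le_induction with
  | base => exact hx
  | succ k _ ih => exact ih (by rw [← ht, hx, map_zero])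

theorem lift_mono (ht : ∀ n x, t n (π (n + 1) x) = π n x) {x : ∀ n, G n}
    (hx : ∀ n, t n (x (n + 1)) = x n) {n k : ℕ} (h : n ≤ k) {z : H} (hz : π k z = x k) :
    π n z = x n := by
  induction k, h using Nat.le_induction with
  | base => exact hz
  | succ k _ ih => exact ih (by rw [← ht, hz, hx])

theorem comp_bijective {hI : ∀ n, ∀ a ∈ I ^ (n + 1), ∀ y : G n, a • y = 0}
    {ht : ∀ n x, t n (π (n + 1) x) = π n x} {hL : ∀ x, x ∈ L ↔ ∀ n, t n (x (n + 1)) = x n}
    (hK : ∀ n, ∃ k, ∀ x, π k x = 0 → x ∈ I ^ n • (⊤ : Submodule A H))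
    (hlift : ∀ x : ∀ n, G n, (∀ n, t n (x (n + 1)) = x n) → ∀ n, ∃ z, π n z = x n) :
    Function.Bijective (comp hI ht hL) := by
  classical
  choose kk hkk using hK
  have hker : ∀ n k, kk n ≤ k → ∀ x, π k x = 0 → x ∈ I ^ n • (⊤ : Submodule A H) :=
    fun n k hk x hx => hkk n x (ker_mono ht hk hx)
  constructor
  · refine (injective_iff_map_eq_zero _).2 fun ξ hξ => AdicCompletion.ext fun n => ?_
    let k := n + kk n
    obtain ⟨h, hh⟩ := Submodule.Quotient.mk_surjective _ (ξ.val (k + 1))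
    have h1 : qmap π hI k (ξ.val (k + 1)) = 0 := congrArg (fun z => z.1 k) hξ
    rw [← hh, qmap_mk] at h1
    have h2 := hker n k (by omega) h h1
    rw [← ξ.property (show n ≤ k + 1 by omega), ← hh]
    exact (Submodule.Quotient.mk_eq_zero _).2 h2
  · rintro ⟨x, hx'⟩
    have hx := (hL x).1 hx'
    choose h hh using hlift x hx
    let g : ℕ → ℕ := fun m => (Finset.range (m + 1)).sup kk + m
    have hg : ∀ n m, n ≤ m → kk n ≤ g m := fun n m hnm => by
      have : kk n ≤ (Finset.range (m + 1)).sup kk :=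
        Finset.le_sup (Finset.mem_range.2 (Nat.lt_succ_of_le hnm))
      show kk n ≤ (Finset.range (m + 1)).sup kk + m
      omega
    have hπ : ∀ n j, n ≤ j → π n (h j) = x n := fun n j hnj => lift_mono ht hx hnj (hh j)
    refine ⟨⟨fun n => Submodule.Quotient.mk (h (g n)), fun {n m} hnm => ?_⟩,
      Subtype.ext (funext fun n => ?_)⟩
    · refine (Submodule.Quotient.eq _).2 ?_
      let j := min (g n) (g m)
      refine hker n j (le_min (hg n n le_rfl) (hg n m hnm)) _ ?_
      rw [LinearMap.id_apply, map_sub, hπ j (g m) (min_le_right _ _), hπ j (g n) (min_le_left _ _),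
        sub_self]
    · exact (qmap_mk n _).trans (hπ n (g (n + 1)) (by show n ≤ _ + (n + 1); omega))

end Groth.Agent.FFun.Tower
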