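import Groth.Agent.FFun.Sup
import Groth.Agent.FFun.Tower
import Groth.Agent.S0002
import Mathlib.RingTheory.AdicCompletion.Basic

/-!
# The theorem on formal functions
-/

universe u

set_option backward.isDefEq.respectTransparency false
set_option backward.isDefEq.respectTransparency.types false

open CategoryTheory CategoryTheory.Limits AlgebraicGeometry TopologicalSpace Opposite
open Groth.Agent.PnCoh.Finite (mapLin)

noncomputable section

namespace Groth.Agent.FFun

variable {A : Type u} [CommRing A] {X : Scheme.{u}} [X.Over (Spec (CommRingCat.of A))]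
  (I : Ideal A) (M : X.Modules) (p : ℕ)

theorem tr_π {J J' : Ideal A} (h : J' ≤ J) (x : Coh.HH X M p) :
    mapLin A (trJ h M) p (mapLin A (modJπ J' M) p x) = mapLin A (modJπ J M) p x := by
  rw [mapLin_comp, mapLin_congr (π_descJ _ _)]

/-- The projections of the tower. -/
abbrev πT (n : ℕ) : Coh.HH X M p →ₗ[A] Formal.HHmodPow I M p n :=
  mapLin A (modJπ (I ^ (n + 1)) M) p

theorem hI_tower (n : ℕ) (a : A) (ha : a ∈ I ^ (n + 1)) (y : Formal.HHmodPow I M p n) : a • y = 0 :=
  smul_HH_eq_zero (le_killIdeal_modJ _ M ha) p y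

theorem ht_tower (n : ℕ) (x : Coh.HH X M p) :
    Formal.HHmodPowTrans I M p n (πT I M p (n + 1) x) = πT I M p n x :=
  (Formal.HHmap_comp _ _ p x).trans
    (mapLin_congr (A := A) (cokernel.π_desc _ _ _) p x)

theorem hL_tower (x : ∀ n, Formal.HHmodPow I M p n) :
    x ∈ Formal.HHlim I M p ↔ ∀ n, Formal.HHmodPowTrans I M p n (x (n + 1)) = x n := Iff.rfl

theorem compat_of_le (x : ∀ n, Formal.HHmodPow I M p n)
    (hx : ∀ n, Formal.HHmodPowTrans I M p n (x (n + 1)) = x n) {n k : ℕ} (h : n ≤ k) :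
    mapLin A (trJ (Ideal.pow_le_pow_right (I := I) (Nat.succ_le_succ h)) M) p (x k) = x n := by
  induction k, h using Nat.le_induction with
  | base =>
    have : trJ (le_refl (I ^ (n + 1))) M = 𝟙 _ := by
      rw [← cancel_epi (modJπ _ M), π_descJ, Category.comp_id]
    refine (mapLin_congr this p _).trans ?_
    show Sheaf.H.map ((QCoh.toAbFunctor X).map (𝟙 _)) p (x n) = x n
    rw [CategoryTheory.Functor.map_id, Sheaf.H.map_id_apply]
  | succ k h ih =>
    have h1 : mapLin A (trJ (Ideal.pow_le_pow_right (I := I) (Nat.le_succ (k + 1))) M) p (x (k + 1)) =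
        x k := hx k
    rw [← ih, ← h1, mapLin_comp]
    refine mapLin_congr ?_ p _
    rw [← cancel_epi (modJπ _ M), π_descJ_assoc, π_descJ, π_descJ]

/-- The comparison. -/
def compΦ : AdicCompletion I (Coh.HH X M p) →+ Formal.HHlim I M p :=
  Tower.comp (π := πT I M p) (t := Formal.HHmodPowTrans I M p) (hI_tower I M p) (ht_tower I M p)
    (hL_tower I M p)

variable {I M p}

theorem compΦ_bijective {Z : Set X} (hG : Good Z I) (hM : InCls Z M) :
    Function.Bijective (compΦ I M p) := by
  obtain ⟨hK, hML⟩ := hG M hM p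
  refine Tower.comp_bijective (fun n => ?_) (fun x hx n => ?_)
  · obtain ⟨k, hk⟩ := hK n
    exact ⟨k, fun x hx => hk x ((tr_π M p (Ideal.pow_le_pow_right (I := I) (Nat.le_succ k)) x).symm.trans
      ((congrArg (mapLin A (trJ _ M) p) hx).trans (map_zero _)))⟩
  · obtain ⟨k, hk, hy⟩ := hML (n + 1)
    obtain ⟨j, rfl⟩ := Nat.exists_eq_add_of_le' (show 1 ≤ k by omega)
    obtain ⟨z, hz⟩ := hy (x j)
    exact ⟨z, hz.trans (compat_of_le I M p x hx (show n ≤ j by omega))⟩

theorem compΦ_of (x : Coh.HH X M p) :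
    compΦ I M p (AdicCompletion.of I _ x) = Formal.toHHlim I M p x :=
  Subtype.ext (funext fun n =>
    (Tower.comp_of (hI := hI_tower I M p) (ht := ht_tower I M p) (hL := hL_tower I M p) x n).trans rfl)

end Groth.Agent.FFun
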