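import Groth.Agent.FFun.Principal
import Mathlib.RingTheory.Filtration

/-!
# Formal functions: induction on the generators of the ideal
-/

universe u

set_option backward.isDefEq.respectTransparency false
set_option backward.isDefEq.respectTransparency.types false

open CategoryTheory CategoryTheory.Limits AlgebraicGeometry TopologicalSpace Opposite
open Groth.Agent.PnCoh.Finite (mapLin)

noncomputable section

namespace Groth.Agent.FFun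

variable {A : Type u} [CommRing A] {X : Scheme.{u}} [X.Over (Spec (CommRingCat.of A))]

theorem sup_pow_le (J₁ J₂ : Ideal A) (k₁ k₂ : ℕ) : (J₁ ⊔ J₂) ^ (k₁ + k₂) ≤ J₁ ^ k₁ ⊔ J₂ ^ k₂ :=
  Ideal.sup_pow_add_le_pow_sup_pow

theorem good_sup [IsNoetherianRing A] {Z : Set X}
    (hfin : ∀ M : X.Modules, InCls Z M → ∀ p, Module.Finite A (Coh.HH X M p)) {J₁ J₂ : Ideal A}
    (h₁ : Good Z J₁) (h₂ : Good Z J₂) : Good Z (J₁ ⊔ J₂) := by
  intro M hM p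
  have hpow₁ : ∀ n, J₁ ^ n ≤ (J₁ ⊔ J₂) ^ n := fun n => Ideal.pow_right_mono le_sup_left n
  have hpow₂ : ∀ n, J₂ ^ n ≤ (J₁ ⊔ J₂) ^ n := fun n => Ideal.pow_right_mono le_sup_right n
  have hmid : ∀ k₁ k₂, (J₁ ⊔ J₂) ^ (k₁ + k₂) ≤ killIdeal (modJ (J₂ ^ k₂) (modJ (J₁ ^ k₁) M)) :=
    fun k₁ k₂ => (sup_pow_le J₁ J₂ k₁ k₂).trans (sup_le
      ((le_killIdeal_modJ _ _).trans (killIdeal_le_of_epi (modJπ _ _))) (le_killIdeal_modJ _ _))
  constructor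
  · intro n
    obtain ⟨k₁, hk₁⟩ := (h₁ M hM p).1 n
    let H' := Coh.HH X (modJ (J₁ ^ k₁) M) p
    haveI : Module.Finite A H' := hfin _ (hM.modJ _) p
    let Q : Submodule A H' := LinearMap.range (mapLin A (modJπ (J₁ ^ k₁) M) p)
    obtain ⟨c, hc⟩ := Ideal.exists_pow_inf_eq_pow_smul J₂ Q
    obtain ⟨k₂, hk₂⟩ := (h₂ _ (hM.modJ (J₁ ^ k₁)) p).1 (n + c)
    refine ⟨k₁ + k₂, fun x hx => ?_⟩
    let ψ : modJ ((J₁ ⊔ J₂) ^ (k₁ + k₂)) M ⟶ modJ (J₂ ^ k₂) (modJ (J₁ ^ k₁) M) :=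
      descJ (modJπ (J₁ ^ k₁) M ≫ modJπ _ _) (hmid k₁ k₂)
    have h3 : mapLin A (modJπ (J₁ ^ k₁) M) p x ∈ J₂ ^ (n + c) • (⊤ : Submodule A H') := by
      refine hk₂ _ ?_
      have := congrArg (mapLin A ψ p) hx
      rw [mapLin_comp, mapLin_congr (π_descJ _ _), map_zero] at this
      rwa [mapLin_comp]
    have h4 : mapLin A (modJπ (J₁ ^ k₁) M) p x ∈
        J₂ ^ (n + c) • (⊤ : Submodule A H') ⊓ Q := ⟨h3, LinearMap.mem_range_self _ _⟩
    rw [hc (n + c) (Nat.le_add_left c n), Nat.add_sub_cancel] at h4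
    have h5 : mapLin A (modJπ (J₁ ^ k₁) M) p x ∈ J₂ ^ n • Q :=
      Submodule.smul_mono le_rfl inf_le_right h4
    rw [show Q = Submodule.map (mapLin A (modJπ (J₁ ^ k₁) M) p) ⊤ from (Submodule.map_top _).symm,
      ← Submodule.map_smul''] at h5
    obtain ⟨x₁, hx₁, hxx⟩ := h5
    have h6 : mapLin A (modJπ (J₁ ^ k₁) M) p (x - x₁) = 0 := by rw [map_sub, hxx, sub_self]
    rw [← add_sub_cancel x₁ x]
    exact add_mem (Submodule.smul_mono_left (hpow₂ n) hx₁)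
      (Submodule.smul_mono_left (hpow₁ n) (hk₁ _ h6))
  · intro n
    obtain ⟨k₁, hn₁, hk₁⟩ := (h₁ M hM p).2 n
    obtain ⟨k₂, hn₂, hk₂⟩ := (h₂ _ (hM.modJ (J₁ ^ k₁)) p).2 n
    refine ⟨k₁ + k₂, by omega, fun y => ?_⟩
    let ψ : modJ ((J₁ ⊔ J₂) ^ (k₁ + k₂)) M ⟶ modJ (J₂ ^ k₂) (modJ (J₁ ^ k₁) M) :=
      descJ (modJπ (J₁ ^ k₁) M ≫ modJπ _ _) (hmid k₁ k₂)
    obtain ⟨y', hy'⟩ := hk₂ (mapLin A ψ p y)
    obtain ⟨z, hz⟩ := hk₁ y'
    refine ⟨z, ?_⟩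
    let e₁ : modJ (J₁ ^ n) M ⟶ modJ ((J₁ ⊔ J₂) ^ n) M :=
      descJ (modJπ _ M) ((hpow₁ n).trans (le_killIdeal_modJ _ M))
    let e₂ : modJ (J₂ ^ n) (modJ (J₁ ^ k₁) M) ⟶ modJ ((J₁ ⊔ J₂) ^ n) M :=
      descJ (trJ (Ideal.pow_le_pow_right hn₁) M ≫ e₁) ((hpow₂ n).trans (le_killIdeal_modJ _ M))
    have a1 := congrArg (mapLin A e₁ p) hz
    have a2 := congrArg (mapLin A e₂ p) hy'
    simp only [mapLin_comp] at a1 a2
    rw [mapLin_congr (π_descJ _ _)] at a1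
    rw [mapLin_congr (π_descJ _ _)] at a2
    refine a1.trans (a2.trans (mapLin_congr ?_ p y))
    rw [← cancel_epi (modJπ _ M)]
    simp only [ψ, e₁, e₂, Category.assoc, π_descJ, π_descJ_assoc]

theorem good_of_finite [IsNoetherianRing A] [IsNoetherian X] {Z : Set X}
    (hfin : ∀ M : X.Modules, InCls Z M → ∀ p, Module.Finite A (Coh.HH X M p)) (J : Ideal A) :
    Good Z J := by
  induction J, (IsNoetherian.noetherian J) using Submodule.fg_induction with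
  | singleton a => exact good_span_singleton hfin a
  | sup J₁ J₂ _ _ h₁ h₂ => exact good_sup hfin h₁ h₂

end Groth.Agent.FFun
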