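import Groth.Agent.S0002
import Groth.Prelude.Def_ClSub2
import Groth.Agent.FFun.Sup

/-!
# Finiteness for coherent modules with proper support
-/

universe u

set_option backward.isDefEq.respectTransparency false
set_option backward.isDefEq.respectTransparency.types false

open CategoryTheory CategoryTheory.Limits AlgebraicGeometry TopologicalSpace Opposite
open Groth.Agent.PnCoh.Finite (mapLin)

noncomputable section

namespace Groth.Agent.FFun

open Groth.Agent.QCoh in
/-- A coherent module supported in a closed set proper over the base has finite cohomology. -/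
theorem finite_HH_of_properSupport (A : Type u) [CommRing A] [IsNoetherianRing A] {X : Scheme.{u}}
    [X.Over (Spec (CommRingCat.of A))] [IsNoetherian X] {C : Set X}
    (hC : ClSub.IsProperOver (X ↘ Spec (CommRingCat.of A)) C) {M : X.Modules} (hM : Coh.IsCoh M)
    (hs : CohB1.support M ⊆ C) (n : ℕ) : Module.Finite A (Coh.HH X M n) := by
  obtain ⟨hCc, hproper⟩ := hC
  let P : X.Modules → Prop := fun M => ∀ n, Module.Finite A (Coh.HH X M n)
  have hiso : ∀ M N : X.Modules, Nonempty (M ≅ N) → P M → P N := fun M N ⟨e⟩ h n => by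
    haveI := h n
    refine Module.Finite.of_surjective (mapLin A e.hom n) fun y => ⟨mapLin A e.inv n y, ?_⟩
    show Sheaf.H.map _ n (Sheaf.H.map _ n y) = y
    refine (Groth.Agent.PnCoh.Finite.map_map (Y := X.toPresheafedSpace.carrier)
      (((toAbFunctor X).map_comp e.inv e.hom).symm.trans
        (by rw [e.inv_hom_id, CategoryTheory.Functor.map_id])) n y).trans ?_
    exact Sheaf.H.map_id_apply y
  refine devissage P hiso (fun N hN m => finite_HH_of_isZero A hN m) C
    (fun S hS _ _ _ _ a c m => finite_HH_X₂ A hS m (a m) (c m)) (fun ξ hξ _ Z i _ _ hr => ?_)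
    (fun S hS _ _ _ _ b c => finite_HH_X₁ A hS b c) hM hs n
  letI : Z.Over (Spec (CommRingCat.of A)) := ⟨i ≫ X ↘ Spec (CommRingCat.of A)⟩
  let j := (Scheme.IdealSheafData.vanishingIdeal (⟨C, hCc⟩ : Closeds X)).subschemeι
  have hj : Set.range j = C := Groth.Agent.H23.RedSub.range_vanishingIdeal _
  obtain ⟨g, hg⟩ := Groth.Agent.H23.RedSub.exists_lift_closed i j ((hr.le.trans hξ).trans hj.ge)
  haveI : IsClosedImmersion (g ≫ j) := hg ▸ ‹IsClosedImmersion i›
  haveI : IsClosedImmersion g := IsClosedImmersion.of_comp g j
  haveI := hproper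
  haveI : IsProper (Z ↘ Spec (CommRingCat.of A)) := by
    show IsProper (i ≫ X ↘ Spec (CommRingCat.of A))
    rw [← hg, Category.assoc]
    infer_instance
  haveI := LocallyOfFiniteType.isLocallyNoetherian i
  intro m
  obtain ⟨e⟩ := HH_push_linear i (Coh.toGlobal (X ↘ Spec (CommRingCat.of A)))
    (Coh.toGlobal (Z ↘ Spec (CommRingCat.of A))) (fun a => rfl) isQCoh_structureModule m
  haveI := Groth.Agent.S0002.result A Z (Coh.structureModule Z) isCoh_structureModule' m
  exact Module.Finite.equiv e

end Groth.Agent.FFun
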