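import Groth.Agent.FFun.Main
import Groth.Agent.SheafHomX.Smul
import Groth.Prelude.Def_Formal2

/-!
# Formal functions for a single module with finite cohomology
-/

universe u

set_option backward.isDefEq.respectTransparency false
set_option backward.isDefEq.respectTransparency.types false

open CategoryTheory CategoryTheory.Limits AlgebraicGeometry TopologicalSpace Opposite
open Groth.Agent.PnCoh.Finite (mapLin deltaLin)

noncomputable section

namespace Groth.Agent.FFun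

theorem exists_colon_bound {R : Type*} [CommRing R] [IsNoetherianRing R] {M : Type*} [AddCommGroup M]
    [Module R M] [Module.Finite R M] (I : Ideal R) (b : R) :
    ∃ c : ℕ, ∀ K, c ≤ K → ∀ m : M, b • m ∈ I ^ K • (⊤ : Submodule R M) →
      ∃ m' ∈ I ^ (K - c) • (⊤ : Submodule R M), b • (m - m') = 0 := by
  let f : M →ₗ[R] M := LinearMap.lsmul R M b
  obtain ⟨c, hc⟩ := Ideal.exists_pow_inf_eq_pow_smul I (LinearMap.range f)
  refine ⟨c, fun K hK m hm => ?_⟩
  have h1 : f m ∈ I ^ K • (⊤ : Submodule R M) ⊓ LinearMap.range f := ⟨hm, LinearMap.mem_range_self f m⟩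
  rw [hc K hK] at h1
  have h2 : f m ∈ I ^ (K - c) • LinearMap.range f := Submodule.smul_mono le_rfl inf_le_right h1
  rw [← Submodule.map_top f, ← Submodule.map_smul''] at h2
  obtain ⟨m', hm', hmm⟩ := h2
  exact ⟨m', hm', by rw [smul_sub]; exact sub_eq_zero.2 hmm.symm⟩

variable {A : Type u} [CommRing A] {X : Scheme.{u}} [X.Over (Spec (CommRingCat.of A))]

/-- The scalars on sections over an open. -/
def φsec (U : X.Opens) : A →+* Γ(X, U) :=
  (show Coh.Γtop X →+* Γ(X, U) from Coh.resTop X (op U)).comp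
    (Coh.toGlobal (X ↘ Spec (CommRingCat.of A)))

theorem π_app_eq_zero (M : X.Modules) (J : Ideal A) (U : X.Opens) {s : Γ(M, U)}
    (hs : s ∈ J.map (φsec U) • (⊤ : Submodule Γ(X, U) Γ(M, U))) : (modJπ J M).app U s = 0 := by
  refine Submodule.smul_induction_on hs ?_ fun x y hx hy => by rw [map_add, hx, hy, add_zero]
  intro r hr t _
  refine Submodule.span_induction (p := fun r _ => ∀ t, (modJπ J M).app U (r • t) = 0) ?_ ?_ ?_ ?_ hr t
  · rintro _ ⟨a, ha, rfl⟩ t
    refine (congrArg ((modJπ J M).app U) (smulMod_app M a U t).symm).trans ?_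
    exact congr(($(show Formal.smulMod A M a ≫ modJπ J M = 0 by
      rw [smulMod_naturality, mem_killIdeal.1 (le_killIdeal_modJ J M ha), comp_zero])).app U t)
  · intro t; rw [zero_smul, map_zero]
  · intro r r' _ _ h h' t; rw [add_smul, map_add, h, h', add_zero]
  · intro c r _ h t; rw [smul_eq_mul, mul_comm, mul_smul]; exact h _

theorem mem_of_π_app_eq_zero {M : X.Modules} (hM : Coh.IsQCoh M) (J : Ideal A) {U : X.Opens}
    (hU : IsAffineOpen U) {s : Γ(M, U)} (hs : (modJπ J M).app U s = 0) :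
    s ∈ J.map (φsec U) • (⊤ : Submodule Γ(X, U) Γ(M, U)) := by
  letI := QCoh.secModule (Coh.toGlobal (X ↘ Spec (CommRingCat.of A))) M U
  refine Submodule.smul_induction_on (SheafHomX.app_cokernel_eq_zero hM J hU s hs)
    (fun a ha t _ => ?_) fun x y hx hy => add_mem hx hy
  exact Submodule.smul_mem_smul (Ideal.mem_map_of_mem (φsec U) ha) Submodule.mem_top

theorem hom_eq_zero_of_cover {K M : X.Modules} (hK : Coh.IsQCoh K) (hM : Coh.IsQCoh M) (φ : K ⟶ M)
    {ι : Type u} (U : ι → X.Opens) (hU : ∀ i, IsAffineOpen (U i)) (hcov : ∀ x : X, ∃ i, x ∈ U i)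
    (h : ∀ i t, φ.app (U i) t = 0) : φ = 0 := by
  have hI : Coh.IsQCoh (Abelian.image φ) :=
    QCoh.isQCoh_kernel hM (QCoh.isQCoh_cokernel hK hM φ) _
  have hz : IsZero (Abelian.image φ) := QCoh.isZero_of_cover hI U hU hcov
    fun i => subsingleton_of_forall_eq 0 fun x => by
      obtain ⟨t, rfl⟩ := QCoh.app_surjective_of_epi hK hI (Abelian.factorThruImage φ) (hU i) x
      refine QCoh.app_injective (Abelian.image.ι φ) (U i) ?_
      rw [map_zero]
      exact (congr(($(Abelian.image.fac φ)).app (U i) t)).trans (h i t)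
  rw [← Abelian.image.fac φ, hz.eq_of_src (Abelian.image.ι φ) 0, comp_zero]

/-- Artin–Rees for the colon `(Jᴷ M : aᵏ)`. -/
theorem exists_colon [IsNoetherian X] {M : X.Modules} (hM : Coh.IsCoh M) (J : Ideal A) (a : A) :
    ∃ N : ℕ, ∀ k n : ℕ, ∃ K, n ≤ K ∧
      kernel.ι (Formal.smulMod A M (a ^ k) ≫ modJπ (J ^ K) M) ≫ Formal.smulMod A M (a ^ N) ≫
        modJπ (J ^ n) M = 0 := by
  classical
  obtain ⟨s, hs, hcov⟩ := isCompact_iff_finite_and_eq_biUnion_affineOpens.mp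
    (show IsCompact ((⊤ : X.Opens) : Set X) by simpa using isCompact_univ)
  haveI := hs.to_subtype
  haveI := Fintype.ofFinite s
  have hcov' : ∀ x : X, ∃ i : s, x ∈ i.1.1 := fun x => by
    have hx : x ∈ (⊤ : X.Opens) := trivial
    rw [hcov] at hx
    obtain ⟨V, hV, hxV⟩ := by simpa only [Opens.mem_iSup, exists_prop] using hx
    exact ⟨⟨V, hV⟩, hxV⟩
  haveI : ∀ i : s, IsNoetherianRing Γ(X, i.1.1) := fun i => QCoh.noetherian_sections (X := X) i.1
  haveI : ∀ i : s, Module.Finite Γ(X, i.1.1) Γ(M, i.1.1) := fun i => QCoh.finite_sections hM i.1.2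
  have hN : ∀ i : s, ∃ N : ℕ, ∀ (k : ℕ) (m : Γ(M, i.1.1)),
      φsec i.1.1 a ^ k • m = 0 → φsec i.1.1 a ^ N • m = 0 := fun i => exists_torsion_bound _
  choose N hN using hN
  refine ⟨Finset.univ.sup N, fun k n => ?_⟩
  have hc := fun i : s => exists_colon_bound (M := Γ(M, i.1.1)) (J.map (φsec i.1.1)) (φsec i.1.1 a ^ k)
  choose c hc using hc
  refine ⟨Finset.univ.sup c + n, Nat.le_add_left _ _, ?_⟩
  have hq : ∀ m, Coh.IsQCoh (modJ (J ^ m) M) := fun m => (isCoh_modJ _ hM).1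
  refine hom_eq_zero_of_cover (QCoh.isQCoh_kernel hM.1 (hq _) _) (hq n) _ (fun i : s => i.1.1)
    (fun i => i.1.2) hcov' fun i t => ?_
  let S := kernel.ι (Formal.smulMod A M (a ^ k) ≫ modJπ (J ^ (Finset.univ.sup c + n)) M)
  obtain ⟨m, hm⟩ : ∃ m, S.app i.1.1 t = m := ⟨_, rfl⟩
  have h0 : (modJπ (J ^ (Finset.univ.sup c + n)) M).app i.1.1 (φsec i.1.1 a ^ k • m) = 0 := by
    have := congr(($(kernel.condition (Formal.smulMod A M (a ^ k) ≫
      modJπ (J ^ (Finset.univ.sup c + n)) M))).app i.1.1 t)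
    rw [← hm]
    refine Eq.trans ?_ this
    exact congrArg ((modJπ _ M).app i.1.1) (smulMod_pow_app M a k i.1.1 _).symm
  have h1 := mem_of_π_app_eq_zero hM.1 _ i.1.2 h0
  rw [Ideal.map_pow] at h1
  have hci : c i ≤ Finset.univ.sup c := Finset.le_sup (Finset.mem_univ i)
  obtain ⟨m', hm', hmm⟩ := hc i _ (by omega) m h1
  have h2 := hN i _ _ hmm
  obtain ⟨l, hl⟩ := Nat.exists_eq_add_of_le (Finset.le_sup (f := N) (Finset.mem_univ i))
  have h3 : φsec i.1.1 a ^ Finset.univ.sup N • m = φsec i.1.1 a ^ Finset.univ.sup N • m' := by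
    rw [← sub_eq_zero, ← smul_sub, hl, add_comm, pow_add, mul_smul, h2, smul_zero]
  show (modJπ (J ^ n) M).app i.1.1 ((Formal.smulMod A M (a ^ Finset.univ.sup N)).app i.1.1 (S.app i.1.1 t)) = 0
  rw [hm]
  refine (congrArg ((modJπ (J ^ n) M).app i.1.1) (smulMod_pow_app M a _ i.1.1 m)).trans ?_
  refine (congrArg ((modJπ (J ^ n) M).app i.1.1) h3).trans ?_
  refine π_app_eq_zero M _ _ (Submodule.smul_mem _ _ ?_)
  rw [Ideal.map_pow]
  exact Submodule.smul_mono_left (Ideal.pow_le_pow_right (by omega)) hm'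

/-- The two halves of the formal function theorem for a module and an ideal. -/
def GoodM (M : X.Modules) (J : Ideal A) : Prop :=
  ∀ p : ℕ, (∀ n : ℕ, ∃ k : ℕ, ∀ x : Coh.HH X M p, mapLin A (modJπ (J ^ k) M) p x = 0 →
      x ∈ J ^ n • (⊤ : Submodule A (Coh.HH X M p))) ∧
    ∀ n : ℕ, ∃ (k : ℕ) (h : n ≤ k), ∀ y : Coh.HH X (modJ (J ^ k) M) p,
      ∃ z : Coh.HH X M p, mapLin A (modJπ (J ^ n) M) p z =
        mapLin A (trJ (Ideal.pow_le_pow_right h) M) p y

theorem π_eq_zero_of_le {M : X.Modules} {J J' : Ideal A} (h : J' ≤ J) {p : ℕ} {x : Coh.HH X M p}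
    (hx : mapLin A (modJπ J' M) p x = 0) : mapLin A (modJπ J M) p x = 0 := by
  rw [← tr_π M p h, hx, map_zero]

theorem mapLin_smul_top {M : X.Modules} {J : Ideal A} {p : ℕ} {x : Coh.HH X M p}
    (hx : x ∈ J • (⊤ : Submodule A (Coh.HH X M p))) : mapLin A (modJπ J M) p x = 0 := by
  refine Submodule.smul_induction_on hx (fun a ha t _ => ?_) fun x y hx hy => by
    rw [map_add, hx, hy, add_zero]
  rw [map_smul, smul_HH_eq_zero (le_killIdeal_modJ J M ha)]

theorem goodM_bot (M : X.Modules) : GoodM M (⊥ : Ideal A) := by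
  intro p
  have hk : ∀ k, 1 ≤ k → (⊥ : Ideal A) ^ k ≤ killIdeal M := fun k hk => by
    obtain ⟨j, rfl⟩ := Nat.exists_eq_add_of_le' hk
    rw [pow_succ', Ideal.bot_mul]
    exact bot_le
  constructor
  · intro n
    refine ⟨1, fun x hx => ?_⟩
    have h := congrArg (mapLin A (descJ (𝟙 M) (hk 1 le_rfl)) p) hx
    rw [mapLin_comp, mapLin_congr (π_descJ _ _), map_zero] at h
    have : x = 0 := Eq.trans (by
      show x = Sheaf.H.map ((QCoh.toAbFunctor X).map (𝟙 M)) p x
      rw [CategoryTheory.Functor.map_id, Sheaf.H.map_id_apply]) h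
    rw [this]
    exact zero_mem _
  · intro n
    refine ⟨n + 1, Nat.le_succ n, fun y => ⟨mapLin A (descJ (𝟙 M) (hk (n + 1) (Nat.le_add_left 1 n))) p y, ?_⟩⟩
    rw [mapLin_comp]
    refine mapLin_congr ?_ p y
    rw [← cancel_epi (modJπ _ M), π_descJ_assoc, π_descJ, Category.id_comp]

section Step

variable {M : X.Modules} {J : Ideal A} {a : A} {N k n K : ℕ}

/-- The short exact sequence of `aᵏ` on `M / J'M`. -/
abbrev seqA (M : X.Modules) (J' : Ideal A) (a : A) (k : ℕ) : ShortComplex X.Modules :=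
  ShortComplex.mk (Abelian.factorThruCoimage (Formal.smulMod A (modJ J' M) (a ^ k)))
    (cokernel.π (Formal.smulMod A (modJ J' M) (a ^ k)))
    (by rw [← cancel_epi (Abelian.coimage.π (Formal.smulMod A (modJ J' M) (a ^ k))), ← Category.assoc,
      Abelian.coimage.fac, comp_zero, cokernel.condition])

theorem seqA_shortExact (M : X.Modules) (J' : Ideal A) (a : A) (k : ℕ) :
    (seqA M J' a k).ShortExact := by
  let f := Formal.smulMod A (modJ J' M) (a ^ k)
  refine .mk' (ShortComplex.exact_of_g_is_cokernel _ (CokernelCofork.IsColimit.ofπ _ _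
    (fun {T} φ hφ => cokernel.desc f φ ?_) (fun φ hφ => cokernel.π_desc _ _ _)
    fun φ hφ m hm => ?_)) inferInstance inferInstance
  · rw [← Abelian.coimage.fac f, Category.assoc]
    exact (congrArg (Abelian.coimage.π f ≫ ·) hφ).trans comp_zero
  · exact (cancel_epi (cokernel.π f)).1 (hm.trans (cokernel.π_desc _ _ _).symm)

theorem exists_divide (hle : n ≤ K)
    (h : kernel.ι (Formal.smulMod A M (a ^ k) ≫ modJπ (J ^ K) M) ≫ Formal.smulMod A M (a ^ N) ≫
        modJπ (J ^ n) M = 0) {j : ℕ} (hk : k = N + j) :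
    ∃ τ : (seqA M (J ^ K) a k).X₁ ⟶ modJ (J ^ n) M,
      τ ≫ Formal.smulMod A (modJ (J ^ n) M) (a ^ j) =
        (seqA M (J ^ K) a k).f ≫ trJ (Ideal.pow_le_pow_right hle) M := by
  let f := Formal.smulMod A (modJ (J ^ K) M) (a ^ k)
  let g := trJ (Ideal.pow_le_pow_right (I := J) hle) M ≫ Formal.smulMod A (modJ (J ^ n) M) (a ^ N)
  have hker : kernel.ι f ≫ g = 0 := by
    obtain ⟨T, π, hπ, s, hs⟩ := surjective_up_to_refinements_of_epi (modJπ (J ^ K) M) (kernel.ι f)
    haveI := hπ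
    have h1 : s ≫ Formal.smulMod A M (a ^ k) ≫ modJπ (J ^ K) M = 0 := by
      rw [smulMod_naturality, ← Category.assoc, ← hs, Category.assoc, kernel.condition, comp_zero]
    rw [← cancel_epi π, comp_zero, ← Category.assoc, hs, Category.assoc]
    show s ≫ modJπ (J ^ K) M ≫ trJ _ M ≫ Formal.smulMod A (modJ (J ^ n) M) (a ^ N) = 0
    rw [π_descJ_assoc, ← smulMod_naturality, ← kernel.lift_ι _ s h1, Category.assoc, h, comp_zero]
  refine ⟨cokernel.desc _ g hker, ?_⟩
  rw [← cancel_epi (Abelian.coimage.π f), ← Category.assoc]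
  refine (congrArg (· ≫ _) (cokernel.π_desc (kernel.ι f) g hker)).trans ?_
  show g ≫ _ = Abelian.coimage.π f ≫ Abelian.factorThruCoimage f ≫ _
  rw [← Category.assoc (Abelian.coimage.π f), Abelian.coimage.fac]
  show (trJ (Ideal.pow_le_pow_right (I := J) hle) M ≫ Formal.smulMod A (modJ (J ^ n) M) (a ^ N)) ≫ _ = f ≫ _
  rw [smulMod_naturality, Category.assoc, ← smulMod_mul, ← pow_add, add_comm j N, ← hk]

theorem pow_le_kill (M : X.Modules) (J : Ideal A) (a : A) (K k : ℕ) :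
    (J ⊔ Ideal.span {a}) ^ (K + k) ≤ killIdeal (seqA M (J ^ K) a k).X₃ :=
  (sup_pow_le J _ K k).trans (sup_le
    ((le_killIdeal_modJ _ M).trans (killIdeal_le_of_epi (cokernel.π _)))
    (by
      rw [Ideal.span_singleton_pow, Ideal.span_le, Set.singleton_subset_iff]
      show Formal.smulMod A _ (a ^ k) = 0
      rw [← cancel_epi (cokernel.π (Formal.smulMod A (modJ (J ^ K) M) (a ^ k))),
        ← smulMod_naturality, cokernel.condition, comp_zero]))

theorem goodM_step_ker [IsNoetherianRing A] [IsNoetherian X] (hM : Coh.IsCoh M)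
    (hfin : ∀ p, Module.Finite A (Coh.HH X M p)) (hJ : GoodM M J) (a : A) (p n : ℕ) :
    ∃ k : ℕ, ∀ x : Coh.HH X M p, mapLin A (modJπ ((J ⊔ Ideal.span {a}) ^ k) M) p x = 0 →
      x ∈ (J ⊔ Ideal.span {a}) ^ n • (⊤ : Submodule A (Coh.HH X M p)) := by
  obtain ⟨N, hN⟩ := exists_colon hM J a
  have hJle : ∀ m, J ^ m ≤ (J ⊔ Ideal.span {a}) ^ m := fun m => Ideal.pow_right_mono le_sup_left m
  have ham : ∀ m, a ^ m ∈ (J ⊔ Ideal.span {a}) ^ m := fun m =>
    Ideal.pow_mem_pow (Ideal.mem_sup_right (Ideal.mem_span_singleton_self a)) m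
  obtain ⟨n₂, hn₂⟩ := (hJ p).1 n
  obtain ⟨n₁, h21, hn₁⟩ := (hJ p).2 n₂
  obtain ⟨K, hK, hcol⟩ := hN (N + n) n₁
  obtain ⟨τ, hτ⟩ := exists_divide hK hcol rfl
  refine ⟨K + (N + n), fun x hx => ?_⟩
  have h0 : mapLin A (seqA M (J ^ K) a (N + n)).g p (mapLin A (modJπ (J ^ K) M) p x) = 0 := by
    have := congrArg (mapLin A (descJ (modJπ (J ^ K) M ≫ (seqA M (J ^ K) a (N + n)).g)
      (pow_le_kill M J a K (N + n))) p) hx
    rw [mapLin_comp, mapLin_congr (π_descJ _ _), map_zero] at this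
    rwa [mapLin_comp]
  have hse := QCoh.toAb_shortExact (seqA_shortExact M (J ^ K) a (N + n))
  obtain ⟨w, hw⟩ : ∃ w, mapLin A (seqA M (J ^ K) a (N + n)).f p w = mapLin A (modJπ (J ^ K) M) p x :=
    CategoryTheory.Abelian.Ext.covariant_sequence_exact₂ _ hse
      (mapLin A (modJπ (J ^ K) M) p x) h0
  obtain ⟨z, hz⟩ := hn₁ (mapLin A τ p w)
  have h1 : mapLin A (modJπ (J ^ n₁) M) p x = a ^ n • mapLin A τ p w := by
    rw [← tr_π M p (Ideal.pow_le_pow_right hK), ← hw, mapLin_comp, ← mapLin_smulMod, mapLin_comp,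
      mapLin_congr hτ]
  have h2 : mapLin A (modJπ (J ^ n₂) M) p (x - a ^ n • z) = 0 := by
    rw [map_sub, map_smul, hz, ← map_smul, ← h1, tr_π, sub_self]
  rw [← sub_add_cancel x (a ^ n • z)]
  exact add_mem (Submodule.smul_mono_left (hJle n) (hn₂ _ h2))
    (Submodule.smul_mem_smul (ham n) Submodule.mem_top)

set_option maxHeartbeats 1600000 in
theorem goodM_step_image [IsNoetherianRing A] [IsNoetherian X] (hM : Coh.IsCoh M)
    (hfin : ∀ p, Module.Finite A (Coh.HH X M p)) (hJ : GoodM M J) (a : A) (p n : ℕ) :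
    ∃ (k : ℕ) (h : n ≤ k), ∀ y : Coh.HH X (modJ ((J ⊔ Ideal.span {a}) ^ k) M) p,
      ∃ z : Coh.HH X M p, mapLin A (modJπ ((J ⊔ Ideal.span {a}) ^ n) M) p z =
        mapLin A (trJ (Ideal.pow_le_pow_right h) M) p y := by
  obtain ⟨N, hN⟩ := exists_colon hM J a
  have hJle : ∀ m, J ^ m ≤ (J ⊔ Ideal.span {a}) ^ m := fun m => Ideal.pow_right_mono le_sup_left m
  have ham : ∀ m, a ^ m ∈ (J ⊔ Ideal.span {a}) ^ m := fun m =>
    Ideal.pow_mem_pow (Ideal.mem_sup_right (Ideal.mem_span_singleton_self a)) m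
  haveI := hfin (p + 1)
  obtain ⟨n₄, h4, hn₄⟩ := (hJ p).2 n
  obtain ⟨c, hc⟩ := exists_torsion_bound (M := Coh.HH X M (p + 1)) a
  obtain ⟨c', hc'⟩ := exists_colon_bound (M := Coh.HH X M (p + 1)) J (a ^ (n + c))
  obtain ⟨n₂', hn₂⟩ := (hJ (p + 1)).1 (n₄ + c')
  obtain ⟨n₁, h21, hn₁⟩ := (hJ (p + 1)).2 (max n₂' n₄)
  obtain ⟨K, hK, hcol⟩ := hN (N + (n + c)) n₁
  obtain ⟨τ, hτ⟩ := exists_divide hK hcol rfl
  have h41 : n₄ ≤ n₁ := le_trans (le_max_right _ _) h21
  let S := seqA M (J ^ K) a (N + (n + c))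
  let S' := seqA M (J ^ n₄) a n
  let ψ : modJ ((J ⊔ Ideal.span {a}) ^ (K + (N + (n + c)))) M ⟶ S.X₃ :=
    descJ (modJπ (J ^ K) M ≫ S.g) (pow_le_kill M J a K (N + (n + c)))
  let tr := trJ (Ideal.pow_le_pow_right (I := J) h41) M
  let τ₁ : S.X₁ ⟶ S'.X₁ := τ ≫ tr ≫ Formal.smulMod A (modJ (J ^ n₄) M) (a ^ c) ≫
    Abelian.coimage.π (Formal.smulMod A (modJ (J ^ n₄) M) (a ^ n))
  have hK4 : n₄ ≤ K := le_trans h41 hK
  have hφ₁ : τ₁ ≫ S'.f = S.f ≫ trJ (Ideal.pow_le_pow_right hK4) M := by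
    have e : trJ (Ideal.pow_le_pow_right (I := J) hK4) M =
        trJ (Ideal.pow_le_pow_right (I := J) hK) M ≫ tr := by
      rw [← cancel_epi (modJπ _ M), π_descJ, π_descJ_assoc, π_descJ]
    simp only [τ₁, Category.assoc]
    show τ ≫ tr ≫ Formal.smulMod A _ (a ^ c) ≫ Abelian.coimage.π _ ≫ Abelian.factorThruCoimage _ = _
    rw [Abelian.coimage.fac, ← smulMod_mul, ← pow_add, ← smulMod_naturality, ← Category.assoc, hτ,
      e, Category.assoc]
  have hw3 : Formal.smulMod A (modJ (J ^ K) M) (a ^ (N + (n + c))) ≫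
      trJ (Ideal.pow_le_pow_right hK4) M ≫ S'.g = 0 := by
    rw [← Abelian.coimage.fac (Formal.smulMod A (modJ (J ^ K) M) (a ^ (N + (n + c)))), Category.assoc]
    show _ ≫ S.f ≫ _ = 0
    rw [← Category.assoc S.f, ← hφ₁, Category.assoc, S'.zero, comp_zero, comp_zero]
  let τ₃ : S.X₃ ⟶ S'.X₃ := cokernel.desc _ (trJ (Ideal.pow_le_pow_right hK4) M ≫ S'.g) hw3
  let φ : S ⟶ S' :=
    { τ₁ := τ₁
      τ₂ := trJ (Ideal.pow_le_pow_right hK4) M
      τ₃ := τ₃
      comm₁₂ := hφ₁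
      comm₂₃ := (cokernel.π_desc _ _ hw3).symm }
  refine ⟨K + (N + (n + c)), by omega, fun y => ?_⟩
  let hS := seqA_shortExact M (J ^ K) a (N + (n + c))
  let hS' := seqA_shortExact M (J ^ n₄) a n
  let w : Coh.HH X S.X₁ (p + 1) := deltaLin A hS p (mapLin A ψ p y)
  have hfw : mapLin A S.f (p + 1) w = 0 := by
    show (((mapLin A ψ p y).comp (QCoh.toAb_shortExact hS).extClass rfl).comp
      (CategoryTheory.Abelian.Ext.mk₀ ((QCoh.toAbFunctor X).map S.f)) (add_zero _)) = 0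
    rw [CategoryTheory.Abelian.Ext.comp_assoc_of_third_deg_zero]
    exact (congrArg (fun z => CategoryTheory.Abelian.Ext.comp (mapLin A ψ p y) z _)
      (QCoh.toAb_shortExact hS).extClass_comp).trans (CategoryTheory.Abelian.Ext.comp_zero _ _ _ _ _)
  have h1 : a ^ (n + c) • mapLin A τ (p + 1) w = 0 := by
    rw [← mapLin_smulMod, mapLin_comp, mapLin_congr hτ, ← mapLin_comp, hfw, map_zero]
  obtain ⟨z, hz⟩ := hn₁ (mapLin A τ (p + 1) w)
  have h2 : mapLin A (modJπ (J ^ max n₂' n₄) M) (p + 1) (a ^ (n + c) • z) = 0 := by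
    rw [map_smul, hz, ← map_smul, h1, map_zero]
  have h3 := hn₂ _ (π_eq_zero_of_le (Ideal.pow_le_pow_right (le_max_left _ _)) h2)
  obtain ⟨z', hz', hzz⟩ := hc' (n₄ + c') (Nat.le_add_left _ _) z h3
  rw [Nat.add_sub_cancel] at hz'
  have h5 : a ^ c • (z - z') = 0 := hc _ _ hzz
  have h6 : a ^ c • mapLin A tr (p + 1) (mapLin A τ (p + 1) w) = 0 := by
    have e : tr = trJ (Ideal.pow_le_pow_right h21) M ≫ trJ (Ideal.pow_le_pow_right (le_max_right n₂' n₄)) M := by
      rw [← cancel_epi (modJπ _ M), π_descJ, π_descJ_assoc, π_descJ]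
    rw [mapLin_congr e, ← mapLin_comp, ← hz, tr_π, ← map_smul]
    refine mapLin_smul_top ?_
    rw [← sub_add_cancel z z', smul_add, h5, zero_add]
    exact Submodule.smul_mem _ _ hz'
  have h7 : deltaLin A hS' p (mapLin A τ₃ p (mapLin A ψ p y)) = 0 := by
    refine (QCoh.Ab.connecting_naturality (X := X.toPresheafedSpace.carrier) (QCoh.toAb_shortExact hS)
      (QCoh.toAb_shortExact hS') ((QCoh.toAbFunctor X).mapShortComplex.map φ) p _).symm.trans ?_
    show mapLin A τ₁ (p + 1) w = 0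
    rw [← mapLin_comp, ← mapLin_comp, ← mapLin_comp, mapLin_smulMod, h6, map_zero]
  obtain ⟨z₄, hz₄⟩ := Groth.Agent.PnCoh.Finite.exists_of_deltaLin_eq_zero A hS' p h7
  obtain ⟨z₅, hz₅⟩ := hn₄ z₄
  refine ⟨z₅, ?_⟩
  let e₁ : modJ (J ^ n) M ⟶ modJ ((J ⊔ Ideal.span {a}) ^ n) M :=
    descJ (modJπ _ M) ((hJle n).trans (le_killIdeal_modJ _ M))
  let e₂ : S'.X₃ ⟶ modJ ((J ⊔ Ideal.span {a}) ^ n) M :=
    cokernel.desc _ (trJ (Ideal.pow_le_pow_right h4) M ≫ e₁) (by
      rw [smulMod_naturality, mem_killIdeal.1 (le_killIdeal_modJ _ M (ham n)), comp_zero])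
  have a1 := congrArg (mapLin A e₁ p) hz₅
  simp only [mapLin_comp] at a1
  rw [mapLin_congr (π_descJ _ _)] at a1
  have a2 : mapLin A (trJ (Ideal.pow_le_pow_right h4) M ≫ e₁) p z₄ = mapLin A ((ψ ≫ τ₃) ≫ e₂) p y := by
    refine (mapLin_congr (show cokernel.π _ ≫ e₂ = _ from cokernel.π_desc _ _ _) p z₄).symm.trans ?_
    refine (mapLin_comp (A := A) _ _ p z₄).symm.trans ?_
    refine (congrArg (mapLin A e₂ p) hz₄).trans ?_
    rw [mapLin_comp, mapLin_comp, Category.assoc]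
  refine a1.trans (a2.trans (mapLin_congr ?_ p y))
  rw [← cancel_epi (modJπ _ M)]
  simp only [ψ, τ₃, S, S', e₁, e₂, Category.assoc, π_descJ_assoc, cokernel.π_desc_assoc,
    cokernel.π_desc, π_descJ]


theorem goodM_step [IsNoetherianRing A] [IsNoetherian X] (hM : Coh.IsCoh M)
    (hfin : ∀ p, Module.Finite A (Coh.HH X M p)) (hJ : GoodM M J) (a : A) :
    GoodM M (J ⊔ Ideal.span {a}) := fun p =>
  ⟨fun n => goodM_step_ker hM hfin hJ a p n, fun n => goodM_step_image hM hfin hJ a p n⟩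

end Step

/-- The formal function theorem for one module all of whose cohomology is finite. -/
theorem goodM_of_finite [IsNoetherianRing A] [IsNoetherian X] {M : X.Modules} (hM : Coh.IsCoh M)
    (hfin : ∀ p, Module.Finite A (Coh.HH X M p)) (J : Ideal A) : GoodM M J := by
  classical
  obtain ⟨s, rfl⟩ := IsNoetherian.noetherian J
  induction s using Finset.induction with
  | empty => rw [Finset.coe_empty, Submodule.span_empty]; exact goodM_bot M
  | insert a s _ ih =>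
    rw [Finset.coe_insert, Submodule.span_insert, sup_comm]
    exact goodM_step hM hfin ih a

theorem compΦ_bijective_of_goodM {M : X.Modules} {I : Ideal A} (hG : GoodM M I) {p : ℕ} :
    Function.Bijective (compΦ I M p) := by
  obtain ⟨hK, hML⟩ := hG p
  refine Tower.comp_bijective (fun n => ?_) (fun x hx n => ?_)
  · obtain ⟨k, hk⟩ := hK n
    exact ⟨k, fun x hx => hk x (π_eq_zero_of_le (Ideal.pow_le_pow_right (I := I) (Nat.le_succ k)) hx)⟩
  · obtain ⟨k, hk, hy⟩ := hML (n + 1)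
    obtain ⟨j, rfl⟩ := Nat.exists_eq_add_of_le' (show 1 ≤ k by omega)
    obtain ⟨z, hz⟩ := hy (x j)
    exact ⟨z, hz.trans (compat_of_le I M p x hx (show n ≤ j by omega))⟩

/-- A tower with images eventually coming from a fixed group has no `R¹ lim`. -/
theorem subsingleton_limOne {H : Type u} [AddCommGroup H] {G : ℕ → Type u} [∀ n, AddCommGroup (G n)]
    (π : ∀ n, H →+ G n) (t : ∀ n, G (n + 1) →+ G n) (ht : ∀ n x, t n (π (n + 1) x) = π n x)
    (c : ∀ {n m : ℕ}, n ≤ m → G m →+ G n) (hc₀ : ∀ n x, c (le_refl n) x = x)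
    (hc₁ : ∀ {n m : ℕ} (h : n + 1 ≤ m) (x : G m), t n (c h x) = c (show n ≤ m by omega) x)
    (hML : ∀ n, ∃ k, ∀ m (h : n ≤ m), k ≤ m → ∀ y : G m, ∃ z, π n z = c h y) :
    Subsingleton (Formal2.limOne G t) := by
  classical
  choose k hk using hML
  refine subsingleton_of_forall_eq 0 fun q => ?_
  obtain ⟨y, rfl⟩ := QuotientAddGroup.mk_surjective q
  refine (QuotientAddGroup.eq_zero_iff y).2 ?_
  let B : ℕ → ℕ := fun n => (Finset.range (n + 1)).sup k + n
  have hB : ∀ n, k n ≤ B n := fun n =>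
    le_trans (Finset.le_sup (f := k) (Finset.self_mem_range_succ n)) (Nat.le_add_right _ _)
  have hBm : ∀ n, B n ≤ B (n + 1) := fun n =>
    add_le_add (Finset.sup_mono (Finset.range_mono (Nat.le_succ _))) (Nat.le_succ n)
  let cc : ∀ n m, G n := fun n m => if h : n ≤ m then c h (y m) else 0
  let u : ∀ n, G n := fun n => ∑ m ∈ Finset.Ico n (B n + 1), cc n m
  have htcc : ∀ n m, n + 1 ≤ m → t n (cc (n + 1) m) = cc n m := fun n m h => by
    simp only [cc, dif_pos h, dif_pos (show n ≤ m by omega), hc₁]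
  have hdiff : ∀ n, ∃ z, π n z = y n - (u n - t n (u (n + 1))) := fun n => by
    have hle : n ≤ B n := Nat.le_add_left _ _
    have h1 : t n (u (n + 1)) = ∑ m ∈ Finset.Ico (n + 1) (B (n + 1) + 1), cc n m := by
      rw [map_sum]
      exact Finset.sum_congr rfl fun m hm => htcc n m (Finset.mem_Ico.1 hm).1
    have h2 : u n = y n + ∑ m ∈ Finset.Ico (n + 1) (B n + 1), cc n m := by
      show ∑ m ∈ Finset.Ico n (B n + 1), cc n m = _
      rw [Finset.sum_eq_sum_Ico_succ_bot (by omega)]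
      simp only [cc, dif_pos (le_refl n), hc₀]
    have hle' : B n + 1 ≤ B (n + 1) + 1 := Nat.succ_le_succ (hBm n)
    have h3 := Finset.sum_Ico_consecutive (fun m => cc n m) (show n + 1 ≤ B n + 1 by omega) hle'
    have hex : ∀ m ∈ Finset.Ico (B n + 1) (B (n + 1) + 1), ∃ z, π n z = cc n m := fun m hm => by
      have h := (Finset.mem_Ico.1 hm).1
      have hnm : n ≤ m := by omega
      obtain ⟨z, hz⟩ := hk n m hnm (by have := hB n; omega) (y m)
      exact ⟨z, hz.trans (by simp only [cc, dif_pos hnm])⟩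
    choose z hz using hex
    refine ⟨∑ m ∈ (Finset.Ico (B n + 1) (B (n + 1) + 1)).attach, z m.1 m.2, ?_⟩
    rw [map_sum, Finset.sum_congr rfl fun m _ => hz m.1 m.2,
      Finset.sum_attach (Finset.Ico (B n + 1) (B (n + 1) + 1)) (fun m => cc n m), h1, h2, ← h3]
    abel
  choose z hz using hdiff
  let g : ℕ → H := fun n => Nat.rec (motive := fun _ => H) 0 (fun m gm => gm - z m) n
  refine ⟨fun n => u n + π n (g n), funext fun n => ?_⟩
  show (u n + π n (g n)) - t n (u (n + 1) + π (n + 1) (g (n + 1))) = y n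
  rw [map_add, ht, show g (n + 1) = g n - z n from rfl, map_sub, hz]
  abel

theorem subsingleton_limOne_of_goodM {M : X.Modules} {I : Ideal A} (hG : GoodM M I) (p : ℕ) :
    Subsingleton (Formal2.limOne (fun n => Formal.HHmodPow I M p n)
      (fun n => Formal.HHmodPowTrans I M p n)) := by
  refine subsingleton_limOne (H := Coh.HH X M p) (G := fun n => Formal.HHmodPow I M p n)
    (fun n => (πT I M p n).toAddMonoidHom) _ (ht_tower I M p)
    (fun {n m} h => (mapLin A (trJ (Ideal.pow_le_pow_right (I := I) (Nat.succ_le_succ h)) M) p).toAddMonoidHom)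
    (fun n x => ?_) (fun {n m} h x => ?_) fun n => ?_
  · show mapLin A (trJ _ M) p x = x
    refine (mapLin_congr (show trJ (le_refl (I ^ (n + 1))) M = 𝟙 _ by
      rw [← cancel_epi (modJπ _ M), π_descJ, Category.comp_id]) p _).trans ?_
    show Sheaf.H.map ((QCoh.toAbFunctor X).map (𝟙 _)) p x = x
    rw [CategoryTheory.Functor.map_id, Sheaf.H.map_id_apply]
  · show mapLin A (trJ (Ideal.pow_le_pow_right (I := I) (Nat.le_succ (n + 1))) M) p
      (mapLin A (trJ _ M) p x) = mapLin A (trJ _ M) p x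
    rw [mapLin_comp]
    refine mapLin_congr ?_ p x
    rw [← cancel_epi (modJπ _ M), π_descJ_assoc, π_descJ, π_descJ]
  · obtain ⟨k, hk, hy⟩ := (hG p).2 (n + 1)
    refine ⟨k, fun m h hkm y => ?_⟩
    obtain ⟨z, hz⟩ := hy (mapLin A (trJ (Ideal.pow_le_pow_right (show k ≤ m + 1 by omega)) M) p y)
    refine ⟨z, hz.trans ?_⟩
    rw [mapLin_comp]
    refine mapLin_congr ?_ p y
    rw [← cancel_epi (modJπ _ M), π_descJ_assoc, π_descJ, π_descJ]

end Groth.Agent.FFun
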