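import Groth.Agent.FFun.Basic

/-!
# The case of a principal ideal
-/

universe u

set_option backward.isDefEq.respectTransparency false
set_option backward.isDefEq.respectTransparency.types false

open CategoryTheory CategoryTheory.Limits AlgebraicGeometry TopologicalSpace Opposite
open CategoryTheory.Abelian
open Groth.Agent.PnCoh.Finite (mapLin deltaLin)

noncomputable section

namespace Groth.Agent.FFun

variable {A : Type u} [CommRing A] {X : Scheme.{u}} [X.Over (Spec (CommRingCat.of A))]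

theorem smulMod_pow_app (M : X.Modules) (a : A) (k : ℕ) (U : X.Opens) (m : Γ(M, U)) :
    (Formal.smulMod A M (a ^ k)).app U m =
      (show Γ(X, U) from Coh.resTop X (op U) (Coh.toGlobal (X ↘ Spec (CommRingCat.of A)) a)) ^ k • m := by
  rw [smulMod_app, map_pow, map_pow]

theorem exists_torsion_bound {B : Type*} [CommRing B] {M : Type*} [AddCommGroup M] [Module B M]
    [IsNoetherian B M] (b : B) :
    ∃ N : ℕ, ∀ (k : ℕ) (m : M), b ^ k • m = 0 → b ^ N • m = 0 := by
  let f : ℕ →o Submodule B M :=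
    ⟨fun k => LinearMap.ker (LinearMap.lsmul B M (b ^ k)), fun i j hij m hm => by
      rw [LinearMap.mem_ker, LinearMap.lsmul_apply] at hm ⊢
      obtain ⟨l, rfl⟩ := Nat.exists_eq_add_of_le hij
      rw [add_comm, pow_add, mul_smul, hm, smul_zero]⟩
  obtain ⟨N, hN⟩ := monotone_stabilizes_iff_noetherian.2 ‹IsNoetherian B M› f
  refine ⟨N, fun k m hm => ?_⟩
  have : m ∈ f (max N k) := f.monotone (le_max_right N k) (by simpa [f] using hm)
  rw [← hN _ (le_max_left N k)] at this
  simpa [f] using this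

theorem exists_stable [IsNoetherian X] {M : X.Modules} (hM : Coh.IsCoh M) (a : A) :
    ∃ N : ℕ, ∀ k : ℕ, kernel.ι (Formal.smulMod A M (a ^ k)) ≫ Formal.smulMod A M (a ^ N) = 0 := by
  classical
  obtain ⟨s, hs, hcov⟩ := isCompact_iff_finite_and_eq_biUnion_affineOpens.mp
    (show IsCompact ((⊤ : X.Opens) : Set X) by simpa using isCompact_univ)
  haveI := hs.to_subtype
  haveI := Fintype.ofFinite s
  have hcov' : ∀ x : X, ∃ i : s, x ∈ i.1.1 := fun x => by
    have hx : x ∈ (⊤ : X.Opens) := trivial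
    rw [hcov] at hx
    obtain ⟨V, hV, hxV⟩ := by simpa only [Opens.mem_iSup, exists_prop] using hx
    exact ⟨⟨V, hV⟩, hxV⟩
  have hN : ∀ i : s, ∃ N : ℕ, ∀ (k : ℕ) (m : Γ(M, i.1.1)),
      (Formal.smulMod A M (a ^ k)).app i.1.1 m = 0 → (Formal.smulMod A M (a ^ N)).app i.1.1 m = 0 :=
    fun i => by
      haveI := QCoh.noetherian_sections (X := X) i.1
      haveI := QCoh.finite_sections hM i.1.2
      obtain ⟨N, hN⟩ := exists_torsion_bound (M := Γ(M, i.1.1))
        (show Γ(X, i.1.1) from Coh.resTop X (op i.1.1) (Coh.toGlobal (X ↘ Spec (CommRingCat.of A)) a))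
      exact ⟨N, fun k m hm => by rw [smulMod_pow_app] at hm ⊢; exact hN k m hm⟩
  choose N hN using hN
  refine ⟨Finset.univ.sup N, fun k => ?_⟩
  set φ := kernel.ι (Formal.smulMod A M (a ^ k)) ≫ Formal.smulMod A M (a ^ Finset.univ.sup N) with hφ
  have hK : Coh.IsQCoh (kernel (Formal.smulMod A M (a ^ k))) := QCoh.isQCoh_kernel hM.1 hM.1 _
  have hI : Coh.IsQCoh (Abelian.image φ) :=
    QCoh.isQCoh_kernel hM.1 (QCoh.isQCoh_cokernel hK hM.1 φ) _
  have hz : IsZero (Abelian.image φ) := QCoh.isZero_of_cover hI (fun i : s => i.1.1) (fun i => i.1.2)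
    hcov' fun i => subsingleton_of_forall_eq 0 fun x => by
      obtain ⟨t, rfl⟩ := QCoh.app_surjective_of_epi hK hI (Abelian.factorThruImage φ) i.1.2 x
      refine QCoh.app_injective (Abelian.image.ι φ) i.1.1 ?_
      rw [map_zero]
      refine (congr(($(Abelian.image.fac φ)).app i.1.1 t)).trans ?_
      obtain ⟨l, hl⟩ := Nat.exists_eq_add_of_le (Finset.le_sup (f := N) (Finset.mem_univ i))
      show (Formal.smulMod A M (a ^ Finset.univ.sup N)).app i.1.1
        ((kernel.ι (Formal.smulMod A M (a ^ k))).app i.1.1 t) = 0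
      have h0 := hN i k _ (congr(($(kernel.condition (Formal.smulMod A M (a ^ k)))).app i.1.1 t))
      rw [hl, add_comm, pow_add, smulMod_mul]
      exact (congrArg _ h0).trans (map_zero ((Formal.smulMod A M (a ^ l)).app i.1.1).hom)
  rw [← Abelian.image.fac φ, hz.eq_of_src (Abelian.image.ι φ) 0, comp_zero]

section

variable (M : X.Modules) (a : A) (N : ℕ)

/-- `M` modulo `a ^ N`-torsion. -/
abbrev QN : X.Modules := Abelian.coimage (Formal.smulMod A M (a ^ N))

/-- The projection. -/
abbrev qN : M ⟶ QN M a N := Abelian.coimage.π _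

/-- The injection. -/
abbrev iN : QN M a N ⟶ M := Abelian.factorThruCoimage (Formal.smulMod A M (a ^ N))

theorem qN_iN : qN M a N ≫ iN M a N = Formal.smulMod A M (a ^ N) := Abelian.coimage.fac _

theorem iN_qN : iN M a N ≫ qN M a N = Formal.smulMod A (QN M a N) (a ^ N) := by
  rw [← cancel_epi (qN M a N), ← smulMod_naturality (qN M a N), ← Category.assoc, qN_iN]

/-- Multiplication by `a ^ (N + j)`, embedded. -/
abbrev sN (j : ℕ) : QN M a N ⟶ M := iN M a N ≫ Formal.smulMod A M (a ^ j)

theorem qN_sN (j : ℕ) : qN M a N ≫ sN M a N j = Formal.smulMod A M (a ^ (N + j)) := by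
  rw [sN, ← Category.assoc, qN_iN, ← smulMod_mul, add_comm, pow_add]

variable {M a N}

theorem mono_sN (h : ∀ k, kernel.ι (Formal.smulMod A M (a ^ k)) ≫ Formal.smulMod A M (a ^ N) = 0)
    (j : ℕ) : Mono (sN M a N j) := by
  refine Preadditive.mono_of_cancel_zero _ fun {T} t ht => ?_
  obtain ⟨T', π, hπ, s, hs⟩ := surjective_up_to_refinements_of_epi (qN M a N) t
  haveI := hπ
  have h1 : s ≫ Formal.smulMod A M (a ^ (N + j)) = 0 := by
    rw [← qN_sN, ← Category.assoc, ← hs, Category.assoc, ht, comp_zero]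
  have h2 : s ≫ Formal.smulMod A M (a ^ N) = 0 := by
    rw [← kernel.lift_ι _ s h1, Category.assoc, h, comp_zero]
  have h3 : π ≫ t ≫ iN M a N = 0 := by
    rw [← Category.assoc, hs, Category.assoc, qN_iN, h2]
  rw [← cancel_mono (iN M a N), zero_comp]
  rwa [← cancel_epi π, comp_zero]

theorem sN_π (j : ℕ) :
    sN M a N j ≫ modJπ (Ideal.span {a} ^ (N + j)) M = 0 := by
  rw [← cancel_epi (qN M a N), ← Category.assoc, qN_sN, smulMod_naturality, comp_zero,
    mem_killIdeal.1 (le_killIdeal_modJ _ M (Ideal.pow_mem_pow (Ideal.mem_span_singleton_self a) _)),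
    comp_zero]

/-- `0 → M/(torsion) → M → M/aⁿM → 0`. -/
abbrev seqN (M : X.Modules) (a : A) (N j : ℕ) : ShortComplex X.Modules :=
  ShortComplex.mk (sN M a N j) (modJπ (Ideal.span {a} ^ (N + j)) M) (sN_π j)

theorem seqN_shortExact
    (h : ∀ k, kernel.ι (Formal.smulMod A M (a ^ k)) ≫ Formal.smulMod A M (a ^ N) = 0) (j : ℕ) :
    (seqN M a N j).ShortExact := by
  haveI := mono_sN h j
  refine .mk' (ShortComplex.exact_of_g_is_cokernel _ (CokernelCofork.IsColimit.ofπ _ _
    (fun {T} φ hφ => cokernel.desc _ φ ?_) (fun φ hφ => cokernel.π_desc _ _ _)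
    fun φ hφ m hm => ?_)) ‹_› inferInstance
  · have h0 : Formal.smulMod A M (a ^ (N + j)) ≫ φ = 0 := by
      rw [← qN_sN, Category.assoc, hφ, comp_zero]
    refine Sigma.hom_ext _ _ fun b => ?_
    rw [← Category.assoc, comp_zero]
    obtain ⟨c, hc⟩ : ∃ c, c * a ^ (N + j) = (b : A) := by
      rw [← Ideal.mem_span_singleton', ← Ideal.span_singleton_pow]
      exact b.2
    simp only [Formal.smulFamily, Sigma.ι_desc]
    rw [← hc, mul_comm, smulMod_mul, Category.assoc, h0, comp_zero]
  · exact (cancel_epi (modJπ (Ideal.span {a} ^ (N + j)) M)).1 (hm.trans (cokernel.π_desc _ _ _).symm)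

end

variable (A)

theorem exists_HH_torsion_bound [IsNoetherianRing A] (M : X.Modules) (a : A) (p : ℕ)
    [Module.Finite A (Coh.HH X M p)] :
    ∃ c : ℕ, ∀ (k : ℕ) (x : Coh.HH X M p), a ^ k • x = 0 → a ^ c • x = 0 :=
  exists_torsion_bound a

variable {A}

theorem good_span_singleton [IsNoetherianRing A] [IsNoetherian X] {Z : Set X}
    (hfin : ∀ M : X.Modules, InCls Z M → ∀ p, Module.Finite A (Coh.HH X M p)) (a : A) :
    Good Z (Ideal.span {a}) := by
  intro M hM p
  obtain ⟨N, hN⟩ := exists_stable hM.1 a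
  have hse := fun j => QCoh.toAb_shortExact (seqN_shortExact hN j)
  constructor
  · intro n
    refine ⟨N + n, fun x hx => ?_⟩
    obtain ⟨w, hw⟩ : ∃ w, mapLin A (sN M a N n) p w = x := Ext.covariant_sequence_exact₂ _ (hse n) x hx
    rw [← hw, ← mapLin_comp (iN M a N) (Formal.smulMod A M (a ^ n)), mapLin_smulMod]
    exact Submodule.smul_mem_smul (Ideal.pow_mem_pow (Ideal.mem_span_singleton_self a) n)
      Submodule.mem_top
  · intro n
    haveI := hfin M hM (p + 1)
    obtain ⟨c, hc⟩ := exists_HH_torsion_bound A M a (p + 1)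
    refine ⟨N + (n + (c + N)), by omega, fun y => ?_⟩
    let w : Coh.HH X (QN M a N) (p + 1) := deltaLin A (seqN_shortExact hN (n + (c + N))) p y
    have h1 : mapLin A (sN M a N (n + (c + N))) (p + 1) w = 0 := by
      show ((y.comp (hse (n + (c + N))).extClass rfl).comp
        (Ext.mk₀ ((QCoh.toAbFunctor X).map (sN M a N (n + (c + N))))) (add_zero _)) = 0
      rw [Ext.comp_assoc_of_third_deg_zero]
      exact (congrArg (fun z => Ext.comp y z _) (hse (n + (c + N))).extClass_comp).trans
        (Ext.comp_zero _ _ _ _ _)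
    rw [← mapLin_comp (iN M a N) (Formal.smulMod A M (a ^ _)), mapLin_smulMod] at h1
    have h2 : a ^ (c + N) • w = 0 := by
      have := congrArg (mapLin A (qN M a N) (p + 1)) (hc _ _ h1)
      rw [map_smul, mapLin_comp, mapLin_congr (iN_qN M a N), mapLin_smulMod, map_zero, ← mul_smul,
        ← pow_add] at this
      exact this
    let hle : Ideal.span {a} ^ (N + (n + (c + N))) ≤ Ideal.span {a} ^ (N + n) :=
      Ideal.pow_le_pow_right (by omega)
    let φ : seqN M a N (n + (c + N)) ⟶ seqN M a N n :=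
      { τ₁ := Formal.smulMod A (QN M a N) (a ^ (c + N))
        τ₂ := 𝟙 M
        τ₃ := trJ hle M
        comm₁₂ := by
          show Formal.smulMod A (QN M a N) (a ^ (c + N)) ≫ sN M a N n = sN M a N (n + (c + N)) ≫ 𝟙 M
          rw [Category.comp_id, smulMod_naturality, sN, sN, Category.assoc, ← smulMod_mul, ← pow_add,
            add_comm (c + N) n]
        comm₂₃ := by
          show 𝟙 M ≫ modJπ _ M = modJπ _ M ≫ trJ hle M
          rw [Category.id_comp, π_descJ] }
    have h3 : deltaLin A (seqN_shortExact hN n) p (mapLin A (trJ hle M) p y) = 0 := by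
      refine (QCoh.Ab.connecting_naturality (X := X.toPresheafedSpace.carrier) (hse (n + (c + N)))
        (hse n) ((QCoh.toAbFunctor X).mapShortComplex.map φ) p y).symm.trans ?_
      show mapLin A (Formal.smulMod A (QN M a N) (a ^ (c + N))) (p + 1) w = 0
      rw [mapLin_smulMod, h2]
    obtain ⟨z, hz⟩ := Groth.Agent.PnCoh.Finite.exists_of_deltaLin_eq_zero A (seqN_shortExact hN n) p h3
    refine ⟨z, ?_⟩
    have hle' : Ideal.span {a} ^ (N + n) ≤ Ideal.span {a} ^ n := Ideal.pow_le_pow_right (by omega)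
    have := congrArg (mapLin A (trJ hle' M) p) hz
    rw [mapLin_comp, mapLin_comp, mapLin_congr (π_descJ _ _)] at this
    refine this.trans (mapLin_congr ?_ p y)
    rw [← cancel_epi (modJπ _ M), π_descJ, ← Category.assoc, π_descJ, π_descJ]

end Groth.Agent.FFun
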